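import Mathlib
import Cfsg.Agent.EqLemmas

/-!
# Solvable permutation groups containing a cycle of odd prime power length

If a solvable group of permutations of a set of `p ^ a` points (`p` odd) contains a cycle `u`
moving all points, then every element is affine modulo `p` in the labelling by powers of `u`.
-/

set_option autoImplicit false
set_option linter.style.haveILetI false

namespace Cfsg.AltPairs

open Equiv Polynomial

universe uu

theorem sum_pow_eq_sub_one_pow {R : Type*} [Ring R] (p k : ℕ) [Fact p.Prime]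
    [Algebra (ZMod p) R] (f : R) :
    ∑ j ∈ Finset.range (p ^ k), f ^ j = (f - 1) ^ (p ^ k - 1) := by
  have hpos : 1 ≤ p ^ k := Nat.one_le_pow _ _ (Fact.out : p.Prime).pos
  have hpoly : (∑ j ∈ Finset.range (p ^ k), (X : (ZMod p)[X]) ^ j) = (X - 1) ^ (p ^ k - 1) := by
    have hne : (X - 1 : (ZMod p)[X]) ≠ 0 := by
      simpa using X_sub_C_ne_zero (1 : ZMod p)
    apply mul_right_cancel₀ hne
    rw [geom_sum_mul, ← pow_succ, Nat.sub_add_cancel hpos, sub_pow_char_pow, one_pow]
  simpa [map_sum] using congrArg (aeval f) hpoly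

/-- An endomorphism of `p`-power order of a space of dimension `a`. -/
theorem end_order_small {p : ℕ} [Fact p.Prime] (hp : p ≠ 2) {V : Type*} [AddCommGroup V]
    [Module (ZMod p) V] [Finite V] (a : ℕ) (hV : Nat.card V = p ^ a) (f : Module.End (ZMod p) V)
    (hf : f ^ (p ^ a) = 1) :
    (a = 1 → f = 1) ∧
      (2 ≤ a → f ^ (p ^ (a - 1)) = 1 ∧ ∑ j ∈ Finset.range (p ^ (a - 1)), f ^ j = 0) := by
  have hpp : p.Prime := Fact.out
  have hfin : Module.finrank (ZMod p) V = a := by
    have h := Module.natCard_eq_pow_finrank (K := ZMod p) (V := V)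
    rw [hV, Nat.card_zmod] at h
    exact (Nat.pow_right_injective hpp.two_le h).symm
  have hsum : ∀ k, f ^ (p ^ k) - 1 = (f - 1) ^ (p ^ k) := by
    intro k
    have := congrArg (aeval f) (sub_pow_char_pow (p := p) (X : (ZMod p)[X]) 1 k)
    simpa using this.symm
  have hnil : IsNilpotent (f - 1) := ⟨p ^ a, by rw [← hsum, hf, sub_self]⟩
  have hzero : (f - 1) ^ a = 0 := by
    have h := LinearMap.aeval_self_charpoly (f - 1)
    rw [hnil.charpoly_eq_X_pow_finrank, map_pow, aeval_X, hfin] at h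
    exact h
  refine ⟨?_, ?_⟩
  · intro h1
    rw [h1, pow_one, sub_eq_zero] at hzero
    exact hzero
  · intro h2
    have h3 : 3 ≤ p := by
      have := hpp.two_le
      omega
    have hle : a + 1 ≤ p ^ (a - 1) := by
      have hb : ∀ b : ℕ, 1 ≤ b → b + 2 ≤ 3 ^ b := by
        intro b hb
        induction b, hb using Nat.le_induction with
        | base => norm_num
        | succ b _ ih => rw [pow_succ]; omega
      have h4 := hb (a - 1) (by omega)
      have h5 : 3 ^ (a - 1) ≤ p ^ (a - 1) := Nat.pow_le_pow_left h3 _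
      omega
    refine ⟨?_, ?_⟩
    · rw [← sub_eq_zero, hsum]
      exact pow_eq_zero_of_le (by omega) hzero
    · rw [sum_pow_eq_sub_one_pow]
      exact pow_eq_zero_of_le (by omega) hzero

theorem exponent_prime_order_small_aux {p : ℕ} [Fact p.Prime] (hp : p ≠ 2) {A : Type*} [CommGroup A]
    [Finite A] [Module (ZMod p) (Additive A)] (a : ℕ) (hA : Nat.card A = p ^ a) (φ : A →* A)
    (hφ : ∀ x, (⇑φ)^[p ^ a] x = x) :
    (a = 1 → ∀ x, φ x = x) ∧
      (2 ≤ a → (∀ x, (⇑φ)^[p ^ (a - 1)] x = x) ∧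
        ∀ x, ∏ j ∈ Finset.range (p ^ (a - 1)), (⇑φ)^[j] x = 1) := by
  let f : Module.End (ZMod p) (Additive A) := (MonoidHom.toAdditive φ).toZModLinearMap p
  have hf : ∀ (m : ℕ) (x : A), (f ^ m) (Additive.ofMul x) = Additive.ofMul ((⇑φ)^[m] x) := by
    intro m
    induction m with
    | zero => intro x; rfl
    | succ m ih =>
      intro x
      rw [pow_succ', Module.End.mul_apply, ih, Function.iterate_succ_apply']
      rfl
  have hfpa : f ^ (p ^ a) = 1 := by
    apply LinearMap.ext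
    intro y
    have h := hf (p ^ a) (Additive.toMul y)
    rw [hφ] at h
    exact h
  haveI : Finite (Additive A) := inferInstanceAs (Finite A)
  obtain ⟨hone, htwo⟩ := end_order_small (V := Additive A) hp a hA f hfpa
  refine ⟨fun h1 x => ?_, fun h2 => ⟨fun x => ?_, fun x => ?_⟩⟩
  · exact congrArg (fun g : Module.End (ZMod p) (Additive A) =>
      Additive.toMul (g (Additive.ofMul x))) (hone h1)
  · have h := hf (p ^ (a - 1)) x
    rw [(htwo h2).1] at h
    exact (congrArg Additive.toMul h).symm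
  · have h := LinearMap.congr_fun (htwo h2).2 (Additive.ofMul x)
    rw [LinearMap.sum_apply] at h
    simp only [hf] at h
    rw [← ofMul_prod] at h
    exact congrArg Additive.toMul h

/-- An endomorphism of `p`-power order of an elementary abelian group of order `p ^ a`. -/
theorem exponent_prime_order_small {p : ℕ} [Fact p.Prime] (hp : p ≠ 2) {A : Type*} [CommGroup A]
    [Finite A] (a : ℕ) (hA : Nat.card A = p ^ a) (hexp : ∀ x : A, x ^ p = 1) (φ : A →* A)
    (hφ : ∀ x, (⇑φ)^[p ^ a] x = x) :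
    (a = 1 → ∀ x, φ x = x) ∧
      (2 ≤ a → (∀ x, (⇑φ)^[p ^ (a - 1)] x = x) ∧
        ∀ x, ∏ j ∈ Finset.range (p ^ (a - 1)), (⇑φ)^[j] x = 1) := by
  refine @exponent_prime_order_small_aux p _ hp A _ _
    (AddCommGroup.zmodModule (n := p) (G := Additive A)
      (fun x => Additive.toMul.injective (hexp (Additive.toMul x)))) a hA φ hφ

variable {Ω : Type uu}

theorem minimalPeriod_eq_natCard [Finite Ω] {u : Perm Ω} {o : Ω}
    (htr : ∀ x, ∃ k : ℕ, (u ^ k) o = x) : Function.minimalPeriod u o = Nat.card Ω := by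
  have hper : o ∈ Function.periodicPts u := by
    refine Function.mk_mem_periodicPts (orderOf_pos u) ?_
    show u^[orderOf u] o = o
    rw [← Perm.coe_pow, pow_orderOf_eq_one]; rfl
  set d := Function.minimalPeriod u o
  have hd : 0 < d := Function.minimalPeriod_pos_of_mem_periodicPts hper
  let f : Fin d → Ω := fun i => u^[i] o
  have hbij : Function.Bijective f := by
    refine ⟨?_, ?_⟩
    · intro i j hij
      exact Fin.ext (Function.iterate_injOn_Iio_minimalPeriod i.2 j.2 hij)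
    · intro x
      obtain ⟨k, hk⟩ := htr x
      refine ⟨⟨k % d, Nat.mod_lt _ hd⟩, ?_⟩
      show u^[k % d] o = x
      rw [Function.iterate_mod_minimalPeriod_eq, ← Perm.coe_pow, hk]
  rw [← Nat.card_eq_of_bijective f hbij, Nat.card_fin]

theorem pow_apply_eq_iff_modEq [Finite Ω] {u : Perm Ω} {o : Ω}
    (htr : ∀ x, ∃ k : ℕ, (u ^ k) o = x) (k l : ℕ) :
    (u ^ k) o = (u ^ l) o ↔ k ≡ l [MOD Nat.card Ω] := by
  have h := minimalPeriod_eq_natCard htr
  have hd : 0 < Function.minimalPeriod u o := by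
    rw [h]
    haveI : Nonempty Ω := ⟨o⟩
    exact Nat.card_pos
  constructor
  · intro hkl
    rw [Perm.coe_pow, Perm.coe_pow] at hkl
    rw [← Function.iterate_mod_minimalPeriod_eq (n := k),
      ← Function.iterate_mod_minimalPeriod_eq (n := l)] at hkl
    have := Function.iterate_injOn_Iio_minimalPeriod (Nat.mod_lt k hd) (Nat.mod_lt l hd) hkl
    rw [h] at this
    exact this
  · intro hkl
    rw [Perm.coe_pow, Perm.coe_pow, ← Function.iterate_mod_minimalPeriod_eq (n := k),
      ← Function.iterate_mod_minimalPeriod_eq (n := l), h]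
    rw [Nat.ModEq] at hkl
    rw [hkl]

/-- A regular abelian group of exponent `p` normalised by a full cycle of length `p ^ a`. -/
theorem transitive_exponent_prime_normalized [Finite Ω] {p : ℕ} [Fact p.Prime] (hp : p ≠ 2)
    (N : Subgroup (Perm Ω)) (u : Perm Ω) (o : Ω) (a : ℕ) (ha : 1 ≤ a)
    (hcard : Nat.card Ω = p ^ a) (htr : ∀ x, ∃ k : ℕ, (u ^ k) o = x)
    (hcomm : ∀ x ∈ N, ∀ y ∈ N, x * y = y * x) (hexp : ∀ x ∈ N, x ^ p = 1)
    (hNtr : ∀ x, ∃ z ∈ N, z o = x) (hnorm : ∀ z ∈ N, u * z * u⁻¹ ∈ N) :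
    a = 1 ∧ u ∈ N ∧ Nat.card N = p := by
  have hpp : p.Prime := Fact.out
  have hfree : ∀ z ∈ N, z o = o → z = 1 := by
    intro z hz hzo
    ext x
    obtain ⟨y, hy, rfl⟩ := hNtr x
    show z (y o) = y o
    rw [← Perm.mul_apply, hcomm z hz y hy, Perm.mul_apply, hzo]
  have hNcard : Nat.card N = p ^ a := by
    rw [← hcard]
    refine Nat.card_eq_of_bijective (fun z : N => (z : Perm Ω) o) ⟨?_, ?_⟩
    · rintro ⟨y, hy⟩ ⟨z, hz⟩ (hyz : y o = z o)
      apply Subtype.ext
      have : z⁻¹ * y = 1 := hfree _ (N.mul_mem (N.inv_mem hz) hy) (by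
        rw [Perm.mul_apply, hyz]; simp)
      exact (inv_mul_eq_one.mp this).symm
    · intro x
      obtain ⟨z, hz, hzx⟩ := hNtr x
      exact ⟨⟨z, hz⟩, hzx⟩
  letI : CommGroup ↥N :=
    { (inferInstance : Group ↥N) with
      mul_comm := fun x y => Subtype.ext (hcomm x x.2 y y.2) }
  obtain ⟨z, hz, hzo⟩ := hNtr (u o)
  set h : Perm Ω := z⁻¹ * u with hh
  have huz : u = z * h := by rw [hh]; group
  have hho : h o = o := by
    rw [hh, Perm.mul_apply, ← hzo]; simp
  have hhN : ∀ y ∈ N, h * y * h⁻¹ ∈ N := by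
    intro y hy
    have : h * y * h⁻¹ = z⁻¹ * (u * y * u⁻¹) * z := by rw [hh]; group
    rw [this]
    exact N.mul_mem (N.mul_mem (N.inv_mem hz) (hnorm y hy)) hz
  let φ : ↥N →* ↥N :=
    { toFun := fun y => ⟨h * y * h⁻¹, hhN y y.2⟩
      map_one' := Subtype.ext (by simp)
      map_mul' := fun x y => Subtype.ext (by simp [mul_assoc]) }
  have hφ : ∀ (m : ℕ) (y : ↥N),
      (((⇑φ)^[m] y : ↥N) : Perm Ω) = h ^ m * (y : Perm Ω) * (h ^ m)⁻¹ := by
    intro m
    induction m with
    | zero => intro y; simp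
    | succ m ih =>
      intro y
      rw [Function.iterate_succ_apply']
      show h * (((⇑φ)^[m] y : ↥N) : Perm Ω) * h⁻¹ = _
      rw [ih, pow_succ']; group
  have hconj : ∀ (m : ℕ) (y : Perm Ω), y ∈ N → h ^ m * y * (h ^ m)⁻¹ = u ^ m * y * (u ^ m)⁻¹ := by
    intro m
    induction m with
    | zero => intro y _; simp
    | succ m ih =>
      intro y hy
      have hmem : h ^ m * y * (h ^ m)⁻¹ ∈ N := by
        rw [← hφ m ⟨y, hy⟩]
        exact ((⇑φ)^[m] ⟨y, hy⟩).2
      have e1 : h ^ (m + 1) * y * (h ^ (m + 1))⁻¹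
          = z⁻¹ * (u * (h ^ m * y * (h ^ m)⁻¹) * u⁻¹) * z := by
        rw [pow_succ']
        generalize h ^ m = t
        rw [hh]; group
      have hmem2 : u * (h ^ m * y * (h ^ m)⁻¹) * u⁻¹ ∈ N := hnorm _ hmem
      rw [e1, hcomm _ (N.inv_mem hz) _ hmem2, mul_assoc, inv_mul_cancel, mul_one, ih y hy,
        pow_succ']
      group
  have hupa : u ^ (p ^ a) = 1 := by
    ext x
    obtain ⟨k, rfl⟩ := htr x
    show (u ^ (p ^ a)) ((u ^ k) o) = (u ^ k) o
    rw [← Perm.mul_apply, ← pow_add, pow_apply_eq_iff_modEq htr, hcard]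
    exact Nat.ModEq.symm (by simp [Nat.ModEq])
  have hφpa : ∀ y, (⇑φ)^[p ^ a] y = y := by
    intro y
    apply Subtype.ext
    rw [hφ, hconj _ _ y.2, hupa]
    simp
  obtain ⟨hone, htwo⟩ := exponent_prime_order_small hp a hNcard
    (fun x => Subtype.ext (hexp x x.2)) φ hφpa
  have hfix : ∀ m, (h ^ m) o = o := by
    intro m
    induction m with
    | zero => rfl
    | succ m ih => rw [pow_succ, Perm.mul_apply, hho, ih]
  have hkey : ∀ m, (∀ y, (⇑φ)^[m] y = y) → h ^ m = 1 := by
    intro m hm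
    ext x
    obtain ⟨y, hy, rfl⟩ := hNtr x
    have h' := congrArg (fun t : ↥N => (t : Perm Ω)) (hm ⟨y, hy⟩)
    simp only [hφ] at h'
    have e : h ^ m * y = y * h ^ m := mul_inv_eq_iff_eq_mul.mp h'
    show (h ^ m) (y o) = y o
    rw [← Perm.mul_apply, e, Perm.mul_apply, hfix]
  have hprod : ∀ m, u ^ m
      = ((∏ j ∈ Finset.range m, (⇑φ)^[j] ⟨z, hz⟩ : ↥N) : Perm Ω) * h ^ m := by
    intro m
    induction m with
    | zero => simp
    | succ m ih =>
      have hs : ∏ j ∈ Finset.range (m + 1), (⇑φ)^[j] (⟨z, hz⟩ : ↥N)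
          = ⟨z, hz⟩ * φ (∏ j ∈ Finset.range m, (⇑φ)^[j] ⟨z, hz⟩) := by
        rw [Finset.prod_range_succ', map_prod, mul_comm]
        congr 1
        exact Finset.prod_congr rfl (fun j _ => Function.iterate_succ_apply' _ _ _)
      rw [pow_succ', ih, hs]
      show u * _ = (z * (h * _ * h⁻¹)) * h ^ (m + 1)
      rw [pow_succ', huz]; group
  by_cases h1 : a = 1
  · have := hkey 1 (hone h1)
    rw [pow_one] at this
    refine ⟨h1, ?_, by rw [hNcard, h1, pow_one]⟩
    rw [huz, this, mul_one]; exact hz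
  · exfalso
    obtain ⟨hfm, hsum⟩ := htwo (by omega)
    have hum : u ^ (p ^ (a - 1)) = 1 := by
      rw [hprod, hsum, hkey _ hfm]; simp
    have h2 : p ^ (a - 1) ≡ 0 [MOD Nat.card Ω] := by
      rw [← pow_apply_eq_iff_modEq htr, hum]; rfl
    rw [hcard] at h2
    have h3 := Nat.le_of_dvd (pow_pos hpp.pos _) (Nat.modEq_zero_iff_dvd.mp h2)
    have h4 : p ^ (a - 1) < p ^ a := Nat.pow_lt_pow_right hpp.one_lt (by omega)
    omega

end Cfsg.AltPairs
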