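import Cfsg.Agent.Lib.AltPairs.Select

/-!
# Pairs of elements of `p`-power order in alternating groups

For nontrivial permutations `u`, `w` of odd prime power order of at least five points there is an
even `π` such that `u * (π * w * π⁻¹)` is not of `p`-power order and `u`, `π * w * π⁻¹` generate a
non-solvable group.
-/

set_option autoImplicit false
set_option linter.style.haveILetI false

namespace Cfsg.AltPairs

open Equiv

variable {α : Type*} [Fintype α] [DecidableEq α]

/-- The wanted pair. -/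
def GoodPair (p : ℕ) (u w : Perm α) : Prop :=
  ∃ π : Perm α, Perm.sign π = 1 ∧ (¬ ∃ k : ℕ, orderOf (u * (π * w * π⁻¹)) = p ^ k) ∧
    ¬ Group.IsSolvable ↥(Subgroup.closure {u, π * w * π⁻¹})

omit [Fintype α] [DecidableEq α] in
/-- A point of prime period `q ≠ p` excludes `p`-power order. -/
theorem not_ppow_of_period {p q : ℕ} (hp : p.Prime) (hq : q.Prime) (hqp : q ≠ p) (g : Perm α)
    (x : α) (hx : g x ≠ x) (hgq : (g ^ q) x = x) : ¬ ∃ k : ℕ, orderOf g = p ^ k := by
  rintro ⟨k, hk⟩
  have h1 : Function.IsPeriodicPt g q x := by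
    show g^[q] x = x
    rw [← Perm.coe_pow]; exact hgq
  have h2 : Function.IsPeriodicPt g (p ^ k) x := by
    show g^[p ^ k] x = x
    rw [← Perm.coe_pow, ← hk, pow_orderOf_eq_one]; rfl
  have h3 := h1.gcd h2
  rw [Nat.Coprime.gcd_eq_one (Nat.Coprime.pow_right k ((Nat.coprime_primes hq hp).mpr hqp))] at h3
  exact hx h3

theorem GoodPair.symm {p : ℕ} {u w : Perm α} (h : GoodPair p u w) : GoodPair p w u := by
  obtain ⟨π, hsign, hord, hsol⟩ := h
  refine ⟨π⁻¹, by rw [Perm.sign_inv, hsign], ?_, ?_⟩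
  · have e1 : orderOf (w * (π⁻¹ * u * π⁻¹⁻¹)) = orderOf (π * (w * (π⁻¹ * u * π⁻¹⁻¹)) * π⁻¹) := by
      rw [← MulEquiv.orderOf_eq (MulAut.conj π) (w * (π⁻¹ * u * π⁻¹⁻¹))]; rfl
    have e2 : π * (w * (π⁻¹ * u * π⁻¹⁻¹)) * π⁻¹
        = u⁻¹ * (u * (π * w * π⁻¹)) * u := by group
    have e3 : orderOf (u⁻¹ * (u * (π * w * π⁻¹)) * u) = orderOf (u * (π * w * π⁻¹)) := by
      rw [← MulEquiv.orderOf_eq (MulAut.conj u⁻¹) (u * (π * w * π⁻¹))]
      simp [MulAut.conj_apply, mul_assoc]
    rwa [e1, e2, e3]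
  · intro hcon
    apply hsol
    have himg : (Subgroup.closure {w, π⁻¹ * u * π⁻¹⁻¹}).map (MulAut.conj π).toMonoidHom
        = Subgroup.closure {u, π * w * π⁻¹} := by
      rw [MonoidHom.map_closure, Set.image_pair, Set.pair_comm]
      congr 1
      simp [MulAut.conj_apply, mul_assoc]
    rw [← himg]
    exact Group.isSolvable_of_surjective
      ((MulAut.conj π).toMonoidHom.subgroupMap_surjective _)

omit [Fintype α] [DecidableEq α] in
theorem injective_four {x y z t : α} (h1 : x ≠ y) (h2 : x ≠ z) (h3 : x ≠ t) (h4 : y ≠ z)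
    (h5 : y ≠ t) (h6 : z ≠ t) : Function.Injective ![x, y, z, t] := by
  intro i j hij
  fin_cases i <;> fin_cases j <;>
    first
    | rfl
    | exact absurd hij ‹_›
    | exact absurd hij.symm ‹_›

omit [Fintype α] [DecidableEq α] in
theorem injective_five {x y z t r : α} (h1 : x ≠ y) (h2 : x ≠ z) (h3 : x ≠ t) (h4 : x ≠ r)
    (h5 : y ≠ z) (h6 : y ≠ t) (h7 : y ≠ r) (h8 : z ≠ t) (h9 : z ≠ r) (h10 : t ≠ r) :
    Function.Injective ![x, y, z, t, r] := by
  intro i j hij
  fin_cases i <;> fin_cases j <;>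
    first
    | rfl
    | exact absurd hij ‹_›
    | exact absurd hij.symm ‹_›

theorem card_fixed_mod {p : ℕ} [Fact p.Prime] {w : Perm α} {b : ℕ} (hw : w ^ (p ^ b) = 1)
    (T : Finset α) (hT : ∀ y ∈ T, w y ∈ T) (hpT : p ∣ T.card) :
    p ∣ (T.filter fun x => w x = x).card := by
  have hmem : ∀ x, w x ∈ T ↔ x ∈ T :=
    fun x => ⟨fun h => by_contra fun hx => pow_not_mem_of_not_mem hT hx 1 (by simpa using h), hT x⟩
  let σ : Perm {x // x ∈ T} := w.subtypePerm hmem
  have hσ : σ ^ (p ^ b) = 1 := by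
    ext x
    simp [σ, Perm.subtypePerm_pow, hw]
  let toEnd : Perm {x // x ∈ T} →* Function.End {x // x ∈ T} :=
    { toFun := fun g => (g : {x // x ∈ T} → {x // x ∈ T})
      map_one' := rfl
      map_mul' := fun _ _ => rfl }
  have hσ' : toEnd σ ^ (p ^ b) = 1 := by rw [← map_pow, hσ, map_one]
  have h : Fintype.card {x // x ∈ T} ≡ Fintype.card (Function.fixedPoints σ) [MOD p] := by
    convert Equiv.Perm.card_fixedPoints_modEq hσ' using 2 <;> rfl
  rw [Fintype.card_coe] at h
  have h2 : Fintype.card (Function.fixedPoints σ) = (T.filter fun x => w x = x).card := by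
    rw [← Fintype.card_coe]
    exact Fintype.card_congr
      { toFun := fun x => ⟨x.1.1, Finset.mem_filter.mpr ⟨x.1.2, congrArg Subtype.val x.2⟩⟩
        invFun := fun x => ⟨⟨x.1, (Finset.mem_filter.mp x.2).1⟩,
          Subtype.ext (Finset.mem_filter.mp x.2).2⟩
        left_inv := fun _ => rfl
        right_inv := fun _ => rfl }
  rw [h2] at h
  exact (Nat.ModEq.dvd_iff h dvd_rfl).mp hpT

/-- The finite check for elements all of whose cycles have length at most three. -/
theorem goodPair_of_table {k : ℕ} {p : ℕ} (hp : p.Prime) (u w : Perm α) (ι κ : Fin k ↪ α)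
    (u₀ w₀ ρ δ a b : Perm (Fin k)) (hι : ∀ i, u (ι i) = ι (u₀ i)) (hκ : ∀ i, w (κ i) = κ (w₀ i))
    (hδ : Perm.sign δ = -1) (hδw : δ * w₀ = w₀ * δ)
    (ha : a ∈ Subgroup.closure {u₀, ρ * w₀ * ρ⁻¹}) (hb : b ∈ Subgroup.closure {u₀, ρ * w₀ * ρ⁻¹})
    (ha2 : a ^ 2 = 1) (hb3 : b ^ 3 = 1) (hab : (a * b) ^ 5 = 1) (hne : a ≠ 1)
    (q : ℕ) (hq : q.Prime) (hqp : q ≠ p) (i₀ : Fin k)
    (hmove : (u₀ * (ρ * w₀ * ρ⁻¹)) i₀ ≠ i₀) (hfix : ((u₀ * (ρ * w₀ * ρ⁻¹)) ^ q) i₀ = i₀) :
    GoodPair p u w := by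
  have key : ∀ π : Perm α, (∀ i, π (κ i) = ι (ρ i)) ∨ (∀ i, π (κ i) = ι (ρ (δ i))) →
      (¬ ∃ m : ℕ, orderOf (u * (π * w * π⁻¹)) = p ^ m) ∧
        ¬ Group.IsSolvable ↥(Subgroup.closure {u, π * w * π⁻¹}) := by
    intro π hπ
    have hv : ∀ i, (π * w * π⁻¹) (ι i) = ι ((ρ * w₀ * ρ⁻¹) i) := by
      intro i
      rcases hπ with hπ | hπ
      · have h := hπ (ρ⁻¹ i)
        simp at h
        have e : π⁻¹ (ι i) = κ (ρ⁻¹ i) := by rw [Perm.inv_eq_iff_eq]; simp [h]
        rw [Perm.mul_apply, Perm.mul_apply, e, hκ, hπ]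
        rfl
      · have h := hπ (δ⁻¹ (ρ⁻¹ i))
        simp at h
        have e : π⁻¹ (ι i) = κ (δ⁻¹ (ρ⁻¹ i)) := by rw [Perm.inv_eq_iff_eq]; simp [h]
        rw [Perm.mul_apply, Perm.mul_apply, e, hκ, hπ]
        congr 1
        show ρ ((δ * w₀ * δ⁻¹) (ρ⁻¹ i)) = ρ (w₀ (ρ⁻¹ i))
        rw [hδw, mul_inv_cancel_right]
    have huv : ∀ i, (u * (π * w * π⁻¹)) (ι i) = ι ((u₀ * (ρ * w₀ * ρ⁻¹)) i) := by
      intro i
      rw [Perm.mul_apply, hv, hι]; rfl
    have hpow : ∀ (m : ℕ) (i : Fin k), ((u * (π * w * π⁻¹)) ^ m) (ι i)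
        = ι (((u₀ * (ρ * w₀ * ρ⁻¹)) ^ m) i) := by
      intro m
      induction m with
      | zero => intro i; rfl
      | succ m ih => intro i; rw [pow_succ', Perm.mul_apply, ih, huv, pow_succ']; rfl
    refine ⟨not_ppow_of_period hp hq hqp _ (ι i₀) ?_ ?_, ?_⟩
    · rw [huv]; exact fun h => hmove (ι.injective h)
    · rw [hpow, hfix]
    · exact not_isSolvable_of_intertwine ι u (π * w * π⁻¹)
        (Subgroup.subset_closure (by simp)) (Subgroup.subset_closure (by simp)) u₀
        (ρ * w₀ * ρ⁻¹) a b hι hv ha hb ha2 hb3 hab hne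
  obtain ⟨π, -, hπ⟩ := exists_map (Finset.univ.map κ) (Finset.univ.map ι) (by simp) κ (ι ∘ ρ)
    κ.injective (ι.injective.comp ρ.injective) (fun i => by simp) (fun i => by simp)
  rcases Int.units_eq_one_or (Perm.sign π) with h | h
  · exact ⟨π, h, key π (Or.inl hπ)⟩
  · refine ⟨π * δ.viaFintypeEmbedding κ, ?_, key _ (Or.inr fun i => ?_)⟩
    · rw [map_mul, h, Perm.viaFintypeEmbedding_sign, hδ]; rfl
    · rw [Perm.mul_apply, Perm.viaFintypeEmbedding_apply_image, hπ]; rfl

/-- The main case: `u` has an orbit of `p ^ a ≥ 5` points and all periods of `w` divide `p ^ a`. -/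
theorem goodPair_of_long_orbit {p : ℕ} [Fact p.Prime] (hp : p ≠ 2) (u w : Perm α) {b : ℕ}
    (hwb : w ^ (p ^ b) = 1) (hw : w ≠ 1) (x₀ : α) (a : ℕ)
    (hper : Function.minimalPeriod u x₀ = p ^ a) (hM : 5 ≤ p ^ a)
    (hdvd : ∀ y, Function.minimalPeriod w y ∣ p ^ a) : GoodPair p u w := by
  have hpp : p.Prime := Fact.out
  have ha : 1 ≤ a := by
    rcases Nat.eq_zero_or_pos a with h | h
    · simp [h] at hM
    · exact h
  have hpdvd : p ∣ p ^ a := dvd_pow_self p (by omega)
  have hodd : Odd (p ^ a) := (hpp.odd_of_ne_two hp).pow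
  obtain ⟨y₀, hy₀⟩ : ∃ y, w y ≠ y := by
    by_contra hcon
    push Not at hcon
    exact hw (Equiv.ext hcon)
  obtain ⟨z₀, -, hzmax⟩ := Finset.exists_max_image Finset.univ
    (fun y => Function.minimalPeriod w y) ⟨y₀, Finset.mem_univ _⟩
  obtain ⟨mi, hmi⟩ := period_eq_prime_pow hwb z₀
  have hz₀ : w z₀ ≠ z₀ := by
    intro h
    have h1 := hzmax y₀ (Finset.mem_univ _)
    rw [Function.minimalPeriod_eq_one_iff_isFixedPt.mpr h] at h1
    apply hy₀
    have h2 := period_pos w y₀
    exact Function.minimalPeriod_eq_one_iff_isFixedPt.mp (by omega)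
  obtain ⟨T, hzT, hTinv, hTcard⟩ : ∃ T : Finset α, z₀ ∈ T ∧ (∀ y ∈ T, w y ∈ T) ∧ T.card = p ^ a := by
    obtain ⟨U, hU1, hU2, hU3⟩ := exists_invariant_superset hwb (p ^ a)
      (by rw [← hper, ← orbitSet_card u x₀]; exact Finset.card_le_univ _) (orbitSet w z₀)
      (orbitSet_invariant w z₀)
      (by rw [orbitSet_card]; exact Nat.le_of_dvd (pow_pos hpp.pos _) (hdvd z₀))
      (fun y _ => ⟨by
        rw [orbitSet_card]
        obtain ⟨i, hi⟩ := period_eq_prime_pow hwb y
        have h1 := hzmax y (Finset.mem_univ _)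
        rw [hi, hmi] at h1 ⊢
        exact pow_dvd_pow p ((Nat.pow_le_pow_iff_right hpp.one_lt).mp h1), hdvd y⟩)
    exact ⟨U, hU1 (self_mem_orbitSet w z₀), hU2, hU3⟩
  set S := orbitSet u x₀ with hS
  have hScard : S.card = p ^ a := by rw [hS, orbitSet_card, hper]
  set s : ℕ → α := fun i => (u ^ i) x₀ with hs
  have hsS : ∀ i, s i ∈ S := fun i => mem_orbitSet u x₀ i
  have hsu : ∀ i, u (s i) = s (i + 1) := fun i => by
    show u ((u ^ i) x₀) = (u ^ (i + 1)) x₀
    rw [pow_succ', Perm.mul_apply]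
  have hsM : s (p ^ a) = s 0 := by
    show (u ^ (p ^ a)) x₀ = x₀
    rw [Perm.coe_pow, ← hper, Function.iterate_minimalPeriod]
  have hsinj : ∀ i j, i < p ^ a → j < p ^ a → s i = s j → i = j :=
    fun i j hi hj h => pow_apply_inj_of_lt u x₀ (hper ▸ hi) (hper ▸ hj) h
  -- the general conclusion from a suitable `π`
  have fin : ∀ π : Perm α, Perm.sign π = 1 → (∀ x, π x ∈ S ↔ x ∈ T) →
      (∃ x q, q.Prime ∧ q ≠ p ∧ (u * (π * w * π⁻¹)) x ≠ x ∧
        ((u * (π * w * π⁻¹)) ^ q) x = x) →
      (∀ c e : ZMod p, ∃ k l : ℕ, (π * w * π⁻¹) (s k) = s l ∧ (l : ZMod p) ≠ c * k + e) →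
      GoodPair p u w := by
    rintro π hsign hπ ⟨x, q, hq, hqp, hx1, hx2⟩ haff
    refine ⟨π, hsign, not_ppow_of_period hpp hq hqp _ x hx1 hx2, ?_⟩
    refine not_isSolvable_of_not_affine hp (Subgroup.subset_closure (by simp))
      (Subgroup.subset_closure (by simp)) x₀ ha hper (fun k => ?_) haff
    have hmem : (π * w * π⁻¹) (s k) ∈ S := by
      rw [Perm.mul_apply, Perm.mul_apply, hπ]
      refine hTinv _ ((hπ _).mp ?_)
      simpa using hsS k
    rw [hS, orbitSet, Finset.mem_image] at hmem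
    obtain ⟨l, -, hl⟩ := hmem
    exact ⟨l, hl.symm⟩
  have hconj : ∀ (π : Perm α) (x y : α), π x = y → (π * w * π⁻¹) y = π (w x) := by
    intro π x y h
    rw [← h]; simp
  have h2 : (2 : ZMod p) ≠ 0 := by
    intro h
    exact hp ((Nat.prime_dvd_prime_iff_eq hpp Nat.prime_two).mp
      ((ZMod.natCast_eq_zero_iff 2 p).mp (by exact_mod_cast h)))
  have hMz : (p : ZMod p) ^ a = 0 := by simp [show a ≠ 0 by omega]
  have hM1 : ((p ^ a - 1 : ℕ) : ZMod p) = -1 := by
    rw [Nat.cast_sub (by omega), Nat.cast_pow, hMz, Nat.cast_one, zero_sub]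
  have hM2 : ((p ^ a - 2 : ℕ) : ZMod p) = -2 := by
    rw [Nat.cast_sub (by omega), Nat.cast_pow, hMz, Nat.cast_ofNat, zero_sub]
  by_cases hfix : ∃ c ∈ T, w c = c
  · -- `T` has fixed points
    obtain ⟨c, hcT, hc⟩ := hfix
    have hcF : c ∈ T.filter fun x => w x = x := Finset.mem_filter.mpr ⟨hcT, hc⟩
    have hF := Nat.le_of_dvd (Finset.card_pos.mpr ⟨c, hcF⟩)
      (card_fixed_mod hwb T hTinv (hTcard ▸ hpdvd))
    obtain ⟨c', hc'F, hc'ne⟩ := Finset.exists_mem_ne (lt_of_lt_of_le hpp.one_lt hF) c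
    obtain ⟨hc'T, hc'⟩ := Finset.mem_filter.mp hc'F
    have hsix : 6 ≤ p ^ a := by
      rcases Nat.lt_or_ge a 2 with h | h
      · exfalso
        have ha1 : a = 1 := by omega
        have hd := hdvd z₀
        rw [ha1, pow_one] at hd
        have horb : orbitSet w z₀ = T := by
          refine Finset.eq_of_subset_of_card_le (fun y hy => ?_) ?_
          · obtain ⟨i, -, rfl⟩ := Finset.mem_image.mp hy
            exact pow_mem_of_mem hTinv hzT i
          · rw [hTcard, orbitSet_card, ha1, pow_one]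
            rcases hpp.eq_one_or_self_of_dvd _ hd with h' | h'
            · exact absurd (Function.minimalPeriod_eq_one_iff_isFixedPt.mp h') hz₀
            · exact h'.ge
        obtain ⟨i, -, rfl⟩ := Finset.mem_image.mp (horb.symm ▸ hcT)
        rw [← Perm.mul_apply, ← pow_succ', pow_succ, Perm.mul_apply] at hc
        exact hz₀ ((w ^ i).injective hc)
      · have h3 : 3 ≤ p := by have := hpp.two_le; omega
        calc 6 ≤ 3 ^ 2 := by norm_num
          _ ≤ p ^ 2 := Nat.pow_le_pow_left h3 2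
          _ ≤ p ^ a := Nat.pow_le_pow_right hpp.pos h
    have hwz : w z₀ ∈ T := hTinv _ hzT
    have hf : Function.Injective ![z₀, w z₀, c, c'] := by
      have n1 : z₀ ≠ c := fun h => hz₀ (h ▸ hc)
      have n2 : z₀ ≠ c' := fun h => hz₀ (h ▸ hc')
      have n3 : w z₀ ≠ c := fun h => n1 (w.injective (h.trans hc.symm))
      have n4 : w z₀ ≠ c' := fun h => n2 (w.injective (h.trans hc'.symm))
      exact injective_four (Ne.symm hz₀) n1 n2 n3 n4 hc'ne.symm
    have hg : Function.Injective ![s 0, s (p ^ a - 2), s (p ^ a - 1), s 1] := by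
      intro i j hij
      have key : ∀ (x y : ℕ), x < p ^ a → y < p ^ a → x ≠ y → s x ≠ s y :=
        fun x y hx hy hxy h => hxy (hsinj x y hx hy h)
      fin_cases i <;> fin_cases j <;> simp at hij <;>
        first
        | rfl
        | exact absurd hij (key _ _ (by omega) (by omega) (by omega))
    obtain ⟨π, hsign, hπ, hval⟩ := exists_even_map T S (by omega) (by omega) _ _ hf hg
      (by intro i; fin_cases i <;> simp [hzT, hwz, hcT, hc'T])
      (by intro i; fin_cases i <;> simp [hsS])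
    have v0 : (π * w * π⁻¹) (s 0) = s (p ^ a - 2) := by
      rw [hconj π z₀ (s 0) (hval 0)]; exact hval 1
    have v1 : (π * w * π⁻¹) (s (p ^ a - 1)) = s (p ^ a - 1) := by
      rw [hconj π c (s (p ^ a - 1)) (hval 2), hc]; exact hval 2
    have v2 : (π * w * π⁻¹) (s 1) = s 1 := by
      rw [hconj π c' (s 1) (hval 3), hc']; exact hval 3
    have e1 : (u * (π * w * π⁻¹)) (s 0) = s (p ^ a - 1) := by
      rw [Perm.mul_apply, v0, hsu]; congr 1; omega
    have e2 : (u * (π * w * π⁻¹)) (s (p ^ a - 1)) = s 0 := by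
      rw [Perm.mul_apply, v1, hsu, ← hsM]; congr 1; omega
    refine fin π hsign hπ ⟨s 0, 2, Nat.prime_two, Ne.symm hp, ?_, ?_⟩ (fun cc e => ?_)
    · rw [e1]; intro h
      have := hsinj _ _ (by omega) (by omega) h
      omega
    · rw [pow_two, Perm.mul_apply, e1, e2]
    · by_contra hcon
      push Not at hcon
      have a0 := hcon 0 _ v0
      have a1 := hcon _ _ v1
      have a2 := hcon 1 1 v2
      rw [hM2, Nat.cast_zero, mul_zero, zero_add] at a0
      rw [hM1] at a1
      rw [Nat.cast_one, mul_one] at a2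
      have : (2 : ZMod p) * 2 = 0 := by linear_combination a1 + a2 - 2 * a0
      exact h2 (mul_self_eq_zero.mp this)
  · -- all points of `T` move
    push Not at hfix
    have hper3 : 3 ≤ Function.minimalPeriod w z₀ := by
      have h3 : 3 ≤ p := by have := hpp.two_le; omega
      rw [hmi]
      rcases Nat.eq_zero_or_pos mi with h | h
      · rw [h, pow_zero] at hmi
        exact absurd (Function.minimalPeriod_eq_one_iff_isFixedPt.mp hmi) hz₀
      · exact h3.trans (Nat.le_self_pow (by omega) p)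
    -- five distinct points
    obtain ⟨c, hcT, hf⟩ : ∃ c ∈ T,
        Function.Injective ![z₀, w z₀, (w ^ 2) z₀, c, w c] ∧
          (p ^ a = 5 → c = (w ^ 3) z₀) := by
      rcases Nat.lt_or_ge (Function.minimalPeriod w z₀) 5 with hlt | hge
      · have hp3 : Function.minimalPeriod w z₀ = 3 := by
          have hodd' : Odd (Function.minimalPeriod w z₀) := by
            rw [hmi]; exact (hpp.odd_of_ne_two hp).pow
          rcases hodd' with ⟨r, hr⟩
          omega
        have hnsub : ¬ T ⊆ orbitSet w z₀ := by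
          intro hsub
          have := Finset.card_le_card hsub
          rw [hTcard, orbitSet_card, hp3] at this
          omega
        obtain ⟨c, hcT, hc⟩ := Finset.not_subset.mp hnsub
        refine ⟨c, hcT, ?_, ?_⟩
        · have hwc : w c ∉ orbitSet w z₀ := by
            simpa using pow_not_mem_of_not_mem (orbitSet_invariant w z₀) hc 1
          have hcw := hfix c hcT
          have key : ∀ x, x ∈ orbitSet w z₀ → x ≠ c ∧ x ≠ w c :=
            fun x hx => ⟨fun h => hc (h ▸ hx), fun h => hwc (h ▸ hx)⟩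
          have k0 := key _ (self_mem_orbitSet w z₀)
          have k1 := key _ (orbitSet_invariant w z₀ _ (self_mem_orbitSet w z₀))
          have k2 := key _ (mem_orbitSet w z₀ 2)
          have d : ∀ x y : ℕ, x < 3 → y < 3 → x ≠ y → (w ^ x) z₀ ≠ (w ^ y) z₀ :=
            fun x y hx hy hxy h =>
              hxy (pow_apply_inj_of_lt w z₀ (hp3.symm ▸ hx) (hp3.symm ▸ hy) h)
          have d1 : z₀ ≠ w z₀ := by simpa using d 0 1 (by omega) (by omega) (by omega)
          have d2 : z₀ ≠ (w ^ 2) z₀ := by simpa using d 0 2 (by omega) (by omega) (by omega)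
          have d3 : w z₀ ≠ (w ^ 2) z₀ := by simpa using d 1 2 (by omega) (by omega) (by omega)
          exact injective_five d1 d2 k0.1 k0.2 d3 k1.1 k1.2 k2.1 k2.2 hcw.symm
        · intro h5
          exfalso
          have := hdvd z₀
          rw [hp3, h5] at this
          omega
      · refine ⟨(w ^ 3) z₀, pow_mem_of_mem hTinv hzT 3, ?_, fun _ => rfl⟩
        have e : (![z₀, w z₀, (w ^ 2) z₀, (w ^ 3) z₀, w ((w ^ 3) z₀)] : Fin 5 → α)
            = fun i : Fin 5 => (w ^ (i : ℕ)) z₀ := by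
          funext i
          fin_cases i <;> simp [pow_succ']
        rw [e]
        intro i j hij
        exact Fin.ext (pow_apply_inj_of_lt w z₀ (by omega) (by omega) hij)
    obtain ⟨hf, hc5⟩ := hf
    have hmemT : ∀ i, (![z₀, w z₀, (w ^ 2) z₀, c, w c] : Fin 5 → α) i ∈ T := by
      intro i
      fin_cases i <;>
        simp [hzT, hTinv _ hzT, pow_mem_of_mem hTinv hzT 2, hcT, hTinv _ hcT]
    have hg : Function.Injective ![s 0, s 1, s (p ^ a - 2), s 2, s (p ^ a - 1)] := by
      intro i j hij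
      have key : ∀ (x y : ℕ), x < p ^ a → y < p ^ a → x ≠ y → s x ≠ s y :=
        fun x y hx hy hxy h => hxy (hsinj x y hx hy h)
      fin_cases i <;> fin_cases j <;> simp at hij <;>
        first
        | rfl
        | exact absurd hij (key _ _ (by omega) (by omega) (by omega))
    have hgS : ∀ i, (![s 0, s 1, s (p ^ a - 2), s 2, s (p ^ a - 1)] : Fin 5 → α) i ∈ S := by
      intro i; fin_cases i <;> simp [hsS]
    have first : ∀ π : Perm α, Perm.sign π = 1 → (∀ x, π x ∈ S ↔ x ∈ T) →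
        (∀ i, π ((![z₀, w z₀, (w ^ 2) z₀, c, w c] : Fin 5 → α) i)
          = (![s 0, s 1, s (p ^ a - 2), s 2, s (p ^ a - 1)] : Fin 5 → α) i) → GoodPair p u w := by
      intro π hsign hπ hval
      have v0 : (π * w * π⁻¹) (s 0) = s 1 := by
        rw [hconj π z₀ (s 0) (hval 0)]; exact hval 1
      have v1 : (π * w * π⁻¹) (s 1) = s (p ^ a - 2) := by
        rw [hconj π (w z₀) (s 1) (hval 1), ← Perm.mul_apply w w z₀, ← pow_two]; exact hval 2
      have v2 : (π * w * π⁻¹) (s 2) = s (p ^ a - 1) := by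
        rw [hconj π c (s 2) (hval 3)]; exact hval 4
      have e1 : (u * (π * w * π⁻¹)) (s 0) = s 2 := by rw [Perm.mul_apply, v0, hsu]
      have e2 : (u * (π * w * π⁻¹)) (s 2) = s 0 := by
        rw [Perm.mul_apply, v2, hsu, ← hsM]; congr 1; omega
      refine fin π hsign hπ ⟨s 0, 2, Nat.prime_two, Ne.symm hp, ?_, ?_⟩ (fun cc e => ?_)
      · rw [e1]; intro h
        have := hsinj _ _ (by omega) (by omega) h
        omega
      · rw [pow_two, Perm.mul_apply, e1, e2]
      · by_contra hcon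
        push Not at hcon
        have a0 := hcon 0 1 v0
        have a1 := hcon 1 _ v1
        have a2 := hcon 2 _ v2
        rw [Nat.cast_zero, mul_zero, zero_add, Nat.cast_one] at a0
        rw [hM2, Nat.cast_one, mul_one] at a1
        rw [hM1, Nat.cast_ofNat] at a2
        have : (2 : ZMod p) * 2 = 0 := by linear_combination a2 - 2 * a1 + a0
        exact h2 (mul_self_eq_zero.mp this)
    rcases eq_or_lt_of_le hM with h5 | h7
    · -- exactly five points
      obtain ⟨π, hπ, hval⟩ := exists_map T S (by omega) _ _ hf hg hmemT hgS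
      rcases Int.units_eq_one_or (Perm.sign π) with h | h
      · exact first π h hπ hval
      have hp5 : p = 5 := by
        have := hpdvd
        rw [← h5] at this
        exact (Nat.prime_dvd_prime_iff_eq hpp (by norm_num)).mp this
      have hc : c = (w ^ 3) z₀ := hc5 h5.symm
      set σ : Perm α := swap (s 1) (s 3) * swap (s 3) (s 2) * swap (s 2) (s 4) with hσ
      have hne : ∀ x y : ℕ, x < 5 → y < 5 → x ≠ y → s x ≠ s y :=
        fun x y hx hy hxy h => hxy (hsinj x y (h5 ▸ hx) (h5 ▸ hy) h)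
      have n12 := hne 1 2 (by omega) (by omega) (by omega)
      have n13 := hne 1 3 (by omega) (by omega) (by omega)
      have n14 := hne 1 4 (by omega) (by omega) (by omega)
      have n23 := hne 2 3 (by omega) (by omega) (by omega)
      have n24 := hne 2 4 (by omega) (by omega) (by omega)
      have n34 := hne 3 4 (by omega) (by omega) (by omega)
      have n01 := hne 0 1 (by omega) (by omega) (by omega)
      have n02 := hne 0 2 (by omega) (by omega) (by omega)
      have n03 := hne 0 3 (by omega) (by omega) (by omega)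
      have n04 := hne 0 4 (by omega) (by omega) (by omega)
      have σ0 : σ (s 0) = s 0 := by
        rw [hσ, Perm.mul_apply, Perm.mul_apply, swap_apply_of_ne_of_ne n02 n04,
          swap_apply_of_ne_of_ne n03 n02, swap_apply_of_ne_of_ne n01 n03]
      have σ1 : σ (s 1) = s 3 := by
        rw [hσ, Perm.mul_apply, Perm.mul_apply, swap_apply_of_ne_of_ne n12 n14,
          swap_apply_of_ne_of_ne n13 n12, swap_apply_left]
      have σ3 : σ (s 3) = s 2 := by
        rw [hσ, Perm.mul_apply, Perm.mul_apply, swap_apply_of_ne_of_ne n23.symm n34,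
          swap_apply_left, swap_apply_of_ne_of_ne n12.symm n23]
      have σ2 : σ (s 2) = s 4 := by
        rw [hσ, Perm.mul_apply, Perm.mul_apply, swap_apply_left,
          swap_apply_of_ne_of_ne n34.symm n24.symm, swap_apply_of_ne_of_ne n14.symm n34.symm]
      have σ4 : σ (s 4) = s 1 := by
        rw [hσ, Perm.mul_apply, Perm.mul_apply, swap_apply_right, swap_apply_right,
          swap_apply_right]
      have e3 : p ^ a - 2 = 3 := by omega
      have e4 : p ^ a - 1 = 4 := by omega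
      have hsign : Perm.sign (σ * π) = 1 := by
        rw [map_mul, h, hσ, map_mul, map_mul, Perm.sign_swap n13, Perm.sign_swap n23.symm,
          Perm.sign_swap n24]
        rfl
      have hπ' : ∀ x, (σ * π) x ∈ S ↔ x ∈ T := by
        intro x
        rw [Perm.mul_apply, ← hπ x]
        have hsw : ∀ (i j : ℕ) (y : α), swap (s i) (s j) y ∈ S ↔ y ∈ S := by
          intro i j y
          rcases eq_or_ne y (s i) with rfl | h1
          · simp [hsS]
          rcases eq_or_ne y (s j) with rfl | h2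
          · simp [hsS]
          · rw [swap_apply_of_ne_of_ne h1 h2]
        rw [hσ, Perm.mul_apply, Perm.mul_apply, hsw, hsw, hsw]
      have b0 : (σ * π) z₀ = s 0 := by rw [Perm.mul_apply]; exact (congrArg σ (hval 0)).trans σ0
      have b1 : (σ * π) (w z₀) = s 3 := by
        rw [Perm.mul_apply]; exact (congrArg σ (hval 1)).trans σ1
      have b2 : (σ * π) ((w ^ 2) z₀) = s 2 := by
        rw [Perm.mul_apply]
        refine (congrArg σ (hval 2)).trans ?_
        show σ (s (p ^ a - 2)) = s 2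
        rw [e3, σ3]
      have b3 : (σ * π) c = s 4 := by
        rw [Perm.mul_apply]; exact (congrArg σ (hval 3)).trans σ2
      have b4 : (σ * π) (w c) = s 1 := by
        rw [Perm.mul_apply]
        refine (congrArg σ (hval 4)).trans ?_
        show σ (s (p ^ a - 1)) = s 1
        rw [e4, σ4]
      set τ := σ * π with hτ
      have v0 : (τ * w * τ⁻¹) (s 0) = s 3 := by rw [hconj τ _ _ b0]; exact b1
      have v2 : (τ * w * τ⁻¹) (s 2) = s 4 := by
        rw [hconj τ _ _ b2, ← Perm.mul_apply w (w ^ 2) z₀, ← pow_succ', ← hc]; exact b3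
      have v4 : (τ * w * τ⁻¹) (s 4) = s 1 := by rw [hconj τ _ _ b3]; exact b4
      have e1 : (u * (τ * w * τ⁻¹)) (s 0) = s 4 := by rw [Perm.mul_apply, v0, hsu]
      have e2 : (u * (τ * w * τ⁻¹)) (s 4) = s 2 := by rw [Perm.mul_apply, v4, hsu]
      have e5 : (u * (τ * w * τ⁻¹)) (s 2) = s 0 := by
        rw [Perm.mul_apply, v2, hsu, show 4 + 1 = p ^ a by omega, hsM]
      refine fin τ hsign hπ' ⟨s 0, 3, Nat.prime_three, by omega, ?_, ?_⟩ (fun cc e => ?_)
      · rw [e1]; exact n04.symm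
      · rw [show (3 : ℕ) = 1 + 1 + 1 from rfl, pow_add, pow_add, pow_one, Perm.mul_apply,
          Perm.mul_apply, e1, e2, e5]
      · by_contra hcon
        push Not at hcon
        have a0 := hcon 0 3 v0
        have a2 := hcon 2 4 v2
        have a4 := hcon 4 1 v4
        push_cast at a0 a2 a4
        have : (2 : ZMod p) * 2 = 0 := by linear_combination 2 * a2 - a4 - a0
        exact h2 (mul_self_eq_zero.mp this)
    · have hodd7 : 7 ≤ p ^ a := by
        obtain ⟨r, hr⟩ := hodd
        omega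
      obtain ⟨π, hsign, hπ, hval⟩ :=
        exists_even_map T S (by omega) (by omega) _ _ hf hg hmemT hgS
      exact first π hsign hπ hval

end Cfsg.AltPairs
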