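import Cfsg.Agent.Lib.AltPairs.Solvable

/-!
# Choosing invariant sets and even permutations between them; small witnesses
-/

set_option autoImplicit false
set_option linter.style.haveILetI false

namespace Cfsg.AltPairs

open Equiv
open scoped commutatorElement

variable {α : Type*}

theorem period_pos [Finite α] (w : Perm α) (x : α) : 0 < Function.minimalPeriod w x := by
  refine Function.minimalPeriod_pos_of_mem_periodicPts
    (Function.mk_mem_periodicPts (orderOf_pos w) ?_)
  show w^[orderOf w] x = x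
  rw [← Perm.coe_pow, pow_orderOf_eq_one]; rfl

theorem period_eq_prime_pow [Finite α] {p : ℕ} [Fact p.Prime] {w : Perm α} {b : ℕ}
    (hw : w ^ (p ^ b) = 1) (x : α) : ∃ i, Function.minimalPeriod w x = p ^ i := by
  have h : Function.IsPeriodicPt w (p ^ b) x := by
    show w^[p ^ b] x = x
    rw [← Perm.coe_pow, hw]; rfl
  obtain ⟨i, -, hi⟩ := (Nat.dvd_prime_pow (Fact.out : p.Prime)).mp h.minimalPeriod_dvd
  exact ⟨i, hi⟩

theorem pow_apply_inj_of_lt [Finite α] (w : Perm α) (x : α) {i j : ℕ}
    (hi : i < Function.minimalPeriod w x) (hj : j < Function.minimalPeriod w x)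
    (h : (w ^ i) x = (w ^ j) x) : i = j := by
  rw [Perm.coe_pow, Perm.coe_pow] at h
  exact Function.iterate_injOn_Iio_minimalPeriod hi hj h

theorem pow_apply_eq_pow_mod (w : Perm α) (x : α) (i : ℕ) :
    (w ^ i) x = (w ^ (i % Function.minimalPeriod w x)) x := by
  rw [Perm.coe_pow, Perm.coe_pow, Function.iterate_mod_minimalPeriod_eq]

theorem pow_mem_of_mem {w : Perm α} {T : Finset α} (hT : ∀ y ∈ T, w y ∈ T) {x : α} (hx : x ∈ T)
    (i : ℕ) : (w ^ i) x ∈ T := by
  induction i with
  | zero => simpa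
  | succ i ih => rw [pow_succ', Perm.mul_apply]; exact hT _ ih

theorem pow_not_mem_of_not_mem [Finite α] {w : Perm α} {T : Finset α} (hT : ∀ y ∈ T, w y ∈ T)
    {x : α} (hx : x ∉ T) (i : ℕ) : (w ^ i) x ∉ T := by
  intro h
  apply hx
  have hd := period_pos w x
  have hb := Nat.mod_lt i hd
  rw [pow_apply_eq_pow_mod] at h
  have := pow_mem_of_mem hT h (Function.minimalPeriod w x - i % Function.minimalPeriod w x)
  rwa [← Perm.mul_apply, ← pow_add, Nat.sub_add_cancel hb.le, Perm.coe_pow,
    Function.iterate_minimalPeriod] at this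

/-- The orbit of `x`. -/
noncomputable def orbitSet [DecidableEq α] (w : Perm α) (x : α) : Finset α :=
  (Finset.range (Function.minimalPeriod w x)).image fun i => (w ^ i) x

theorem orbitSet_card [Finite α] [DecidableEq α] (w : Perm α) (x : α) :
    (orbitSet w x).card = Function.minimalPeriod w x := by
  rw [orbitSet, Finset.card_image_of_injOn, Finset.card_range]
  intro i hi j hj h
  exact pow_apply_inj_of_lt w x (Finset.mem_range.mp hi) (Finset.mem_range.mp hj) h

theorem mem_orbitSet [Finite α] [DecidableEq α] (w : Perm α) (x : α) (i : ℕ) :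
    (w ^ i) x ∈ orbitSet w x := by
  rw [pow_apply_eq_pow_mod]
  exact Finset.mem_image_of_mem _ (Finset.mem_range.mpr (Nat.mod_lt _ (period_pos w x)))

theorem self_mem_orbitSet [Finite α] [DecidableEq α] (w : Perm α) (x : α) : x ∈ orbitSet w x := by
  simpa using mem_orbitSet w x 0

theorem orbitSet_invariant [Finite α] [DecidableEq α] (w : Perm α) (x : α) :
    ∀ y ∈ orbitSet w x, w y ∈ orbitSet w x := by
  intro y hy
  obtain ⟨i, -, rfl⟩ := Finset.mem_image.mp hy
  rw [← Perm.mul_apply, ← pow_succ']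
  exact mem_orbitSet w x _

/-- Enlarging an invariant set to one of `K` points. -/
theorem exists_invariant_superset [Fintype α] [DecidableEq α] {p : ℕ} [Fact p.Prime] {w : Perm α}
    {b : ℕ} (hw : w ^ (p ^ b) = 1) (K : ℕ) (hK : K ≤ Fintype.card α) (T : Finset α)
    (hT : ∀ y ∈ T, w y ∈ T) (hTK : T.card ≤ K)
    (hdiv : ∀ x ∉ T, Function.minimalPeriod w x ∣ T.card ∧ Function.minimalPeriod w x ∣ K) :
    ∃ U, T ⊆ U ∧ (∀ y ∈ U, w y ∈ U) ∧ U.card = K := by
  induction hgap : K - T.card using Nat.strong_induction_on generalizing T with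
  | h gap ih =>
  rcases eq_or_lt_of_le hTK with heq | hlt
  · exact ⟨T, subset_rfl, hT, heq⟩
  have hne : (Tᶜ : Finset α).Nonempty := by
    rw [← Finset.card_pos, Finset.card_compl]; omega
  obtain ⟨x, hx, hmax⟩ := Finset.exists_max_image Tᶜ (fun y => Function.minimalPeriod w y) hne
  rw [Finset.mem_compl] at hx
  obtain ⟨hd1, hd2⟩ := hdiv x hx
  have hdisj : Disjoint T (orbitSet w x) := by
    rw [Finset.disjoint_right]
    intro y hy
    obtain ⟨i, -, rfl⟩ := Finset.mem_image.mp hy
    exact pow_not_mem_of_not_mem hT hx i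
  have hcard : (T ∪ orbitSet w x).card = T.card + Function.minimalPeriod w x := by
    rw [Finset.card_union_of_disjoint hdisj, orbitSet_card]
  have hdpos := period_pos w x
  have hle : T.card + Function.minimalPeriod w x ≤ K := by
    have := Nat.le_of_dvd (by omega) (Nat.dvd_sub hd2 hd1)
    omega
  have hinv : ∀ y ∈ T ∪ orbitSet w x, w y ∈ T ∪ orbitSet w x := by
    intro y hy
    rcases Finset.mem_union.mp hy with h | h
    · exact Finset.mem_union_left _ (hT y h)
    · exact Finset.mem_union_right _ (orbitSet_invariant w x y h)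
  obtain ⟨U, hU1, hU2, hU3⟩ := ih (K - (T ∪ orbitSet w x).card) (by omega) (T ∪ orbitSet w x) hinv
    (by omega) (fun y hy => by
      have hyT : y ∉ T := fun h => hy (Finset.mem_union_left _ h)
      have hle' := hmax y (Finset.mem_compl.mpr hyT)
      obtain ⟨i, hi⟩ := period_eq_prime_pow hw y
      obtain ⟨j, hj⟩ := period_eq_prime_pow hw x
      have hij : Function.minimalPeriod w y ∣ Function.minimalPeriod w x := by
        rw [hi, hj] at hle' ⊢
        exact pow_dvd_pow p ((Nat.pow_le_pow_iff_right (Fact.out : p.Prime).one_lt).mp hle')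
      refine ⟨?_, (hdiv y hyT).2⟩
      rw [hcard]
      exact dvd_add (hdiv y hyT).1 hij) rfl
  exact ⟨U, fun y hy => hU1 (Finset.mem_union_left _ hy), hU2, hU3⟩

/-- A permutation carrying `T` to `S` with prescribed values. -/
theorem exists_map [Fintype α] [DecidableEq α] (T S : Finset α) (hc : T.card = S.card) :
    ∀ {k : ℕ} (f g : Fin k → α), f.Injective → g.Injective → (∀ i, f i ∈ T) → (∀ i, g i ∈ S) →
      ∃ π : Perm α, (∀ x, π x ∈ S ↔ x ∈ T) ∧ ∀ i, π (f i) = g i := by
  intro k
  induction k with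
  | zero =>
    intro f g _ _ _ _
    refine ⟨(Finset.equivOfCardEq hc).extendSubtype, fun x => ⟨fun hx => ?_, fun hx => ?_⟩,
      fun i => i.elim0⟩
    · by_contra hxT
      exact Equiv.extendSubtype_not_mem _ x hxT hx
    · exact Equiv.extendSubtype_mem _ x hx
  | succ k ih =>
    intro f g hf hg hfT hgS
    obtain ⟨π, hπ, hval⟩ := ih (f ∘ Fin.castSucc) (g ∘ Fin.castSucc)
      (hf.comp (Fin.castSucc_injective k)) (hg.comp (Fin.castSucc_injective k))
      (fun i => hfT _) (fun i => hgS _)
    have hxS : π (f (Fin.last k)) ∈ S := (hπ _).mpr (hfT _)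
    refine ⟨swap (π (f (Fin.last k))) (g (Fin.last k)) * π, fun x => ?_, fun i => ?_⟩
    · rw [Perm.mul_apply, ← hπ x]
      rcases eq_or_ne (π x) (π (f (Fin.last k))) with h1 | h1
      · rw [h1, swap_apply_left]; simp [hxS, hgS]
      rcases eq_or_ne (π x) (g (Fin.last k)) with h2 | h2
      · rw [h2, swap_apply_right]; simp [hxS, hgS]
      · rw [swap_apply_of_ne_of_ne h1 h2]
    · rcases Fin.eq_castSucc_or_eq_last i with ⟨j, rfl⟩ | rfl
      · rw [Perm.mul_apply]
        have hj := hval j
        simp only [Function.comp] at hj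
        rw [hj, swap_apply_of_ne_of_ne]
        · rw [← hj]
          intro h
          exact (Fin.castSucc_lt_last j).ne (hf (π.injective h))
        · intro h
          exact (Fin.castSucc_lt_last j).ne (hg h)
      · rw [Perm.mul_apply, swap_apply_left]

/-- An even permutation carrying `T` to `S` with prescribed values, if two points stay free. -/
theorem exists_even_map [Fintype α] [DecidableEq α] {k : ℕ} (T S : Finset α)
    (hc : T.card = S.card) (hk : k + 2 ≤ S.card) (f g : Fin k → α) (hf : f.Injective)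
    (hg : g.Injective) (hfT : ∀ i, f i ∈ T) (hgS : ∀ i, g i ∈ S) :
    ∃ π : Perm α, Perm.sign π = 1 ∧ (∀ x, π x ∈ S ↔ x ∈ T) ∧ ∀ i, π (f i) = g i := by
  obtain ⟨π, hπ, hval⟩ := exists_map T S hc f g hf hg hfT hgS
  rcases Int.units_eq_one_or (Perm.sign π) with h | h
  · exact ⟨π, h, hπ, hval⟩
  have h2 : 1 < (S \ Finset.univ.image g).card := by
    have h3 : (Finset.univ.image g).card = k := by
      rw [Finset.card_image_of_injective _ hg, Finset.card_fin]
    have := Finset.le_card_sdiff (Finset.univ.image g) S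
    omega
  obtain ⟨c, hc1, d, hd1, hcd⟩ := Finset.one_lt_card.mp h2
  simp only [Finset.mem_sdiff, Finset.mem_image, Finset.mem_univ, true_and, not_exists] at hc1 hd1
  refine ⟨swap c d * π, by rw [map_mul, Perm.sign_swap hcd, h]; rfl, fun x => ?_, fun i => ?_⟩
  · rw [Perm.mul_apply, ← hπ x]
    rcases eq_or_ne (π x) c with h1 | h1
    · rw [h1, swap_apply_left]; simp [hc1.1, hd1.1]
    rcases eq_or_ne (π x) d with h2 | h2
    · rw [h2, swap_apply_right]; simp [hc1.1, hd1.1]
    · rw [swap_apply_of_ne_of_ne h1 h2]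
  · rw [Perm.mul_apply, hval, swap_apply_of_ne_of_ne (hc1.2 i) (hd1.2 i)]

/-- A `(2, 3, 5)`-triple does not lie in a solvable group. -/
theorem not_isSolvable_of_two_three_five {G : Type*} [Group G] {a b : G} (ha : a ^ 2 = 1)
    (hb : b ^ 3 = 1) (hab : (a * b) ^ 5 = 1) (hne : a ≠ 1) : ¬ Group.IsSolvable G := by
  intro hsol
  obtain ⟨n, hn⟩ := (Group.isSolvable_def (G := G)).mp hsol
  have hall : ∀ m, a ∈ derivedSeries G m ∧ b ∈ derivedSeries G m := by
    intro m
    induction m with
    | zero => simp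
    | succ m ih =>
      set D := derivedSeries G m
      let x : ↥D := ⟨a, ih.1⟩
      let y : ↥D := ⟨b, ih.2⟩
      set X := Abelianization.of x with hX
      set Y := Abelianization.of y with hY
      have hX2 : X ^ 2 = 1 := by
        rw [hX, ← map_pow, show x ^ 2 = 1 from Subtype.ext ha, map_one]
      have hY3 : Y ^ 3 = 1 := by
        rw [hY, ← map_pow, show y ^ 3 = 1 from Subtype.ext hb, map_one]
      have hXY : X ^ 5 * Y ^ 5 = 1 := by
        rw [← mul_pow, hX, hY, ← map_mul, ← map_pow, show (x * y) ^ 5 = 1 from Subtype.ext hab,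
          map_one]
      have hX5 : X ^ 5 = X := by
        rw [show 5 = 2 + 2 + 1 from rfl, pow_add, pow_add, hX2]; simp
      have hY5 : Y ^ 5 = Y ^ 2 := by
        rw [show 5 = 3 + 2 from rfl, pow_add, hY3, one_mul]
      rw [hX5, hY5] at hXY
      have hXe : X = Y := by
        calc X = X * Y ^ 3 := by rw [hY3, mul_one]
          _ = (X * Y ^ 2) * Y := by rw [mul_assoc, ← pow_succ]
          _ = Y := by rw [hXY, one_mul]
      have hY1 : Y = 1 := by
        rw [hXe] at hX2
        rwa [pow_succ, hX2, one_mul] at hY3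
      have hker : ∀ z : ↥D, Abelianization.of z = 1 → (z : G) ∈ derivedSeries G (m + 1) := by
        intro z hz
        rw [derivedSeries_succ, ← Subgroup.map_subtype_commutator]
        refine ⟨z, ?_, rfl⟩
        exact Abelianization.ker_of (G := ↥D) ▸ (MonoidHom.mem_ker.mpr hz)
      exact ⟨hker x (by rw [← hX, hXe, hY1]), hker y (by rw [← hY, hY1])⟩
  have := (hall n).1
  rw [hn, Subgroup.mem_bot] at this
  exact hne this

/-- Non-solvability detected on an intertwined finite set. -/
theorem not_isSolvable_of_intertwine {k : ℕ} {H : Subgroup (Perm α)} (ι : Fin k ↪ α)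
    (u v : Perm α) (hu : u ∈ H) (hv : v ∈ H) (u₀ v₀ a b : Perm (Fin k))
    (hιu : ∀ i, u (ι i) = ι (u₀ i)) (hιv : ∀ i, v (ι i) = ι (v₀ i))
    (ha : a ∈ Subgroup.closure {u₀, v₀}) (hb : b ∈ Subgroup.closure {u₀, v₀})
    (ha2 : a ^ 2 = 1) (hb3 : b ^ 3 = 1) (hab : (a * b) ^ 5 = 1) (hne : a ≠ 1) :
    ¬ Group.IsSolvable ↥H := by
  intro hsol
  let P : Subgroup (Perm α × Perm (Fin k)) :=
    { carrier := {g | g.1 ∈ H ∧ ∀ i, g.1 (ι i) = ι (g.2 i)}
      one_mem' := ⟨H.one_mem, fun _ => rfl⟩
      mul_mem' := fun {g h} hg hh => ⟨H.mul_mem hg.1 hh.1, fun i => by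
        simp [hg.2, hh.2]⟩
      inv_mem' := fun {g} hg => ⟨H.inv_mem hg.1, fun i => by
        have := hg.2 (g.2⁻¹ i)
        simp only [Perm.coe_inv, Equiv.apply_symm_apply] at this
        simp only [Prod.fst_inv, Prod.snd_inv, Perm.coe_inv]
        rw [← this, Equiv.symm_apply_apply]⟩ }
  let f : ↥P →* ↥H :=
    { toFun := fun g => ⟨(g : Perm α × Perm (Fin k)).1, g.2.1⟩
      map_one' := rfl
      map_mul' := fun _ _ => rfl }
  have hf : Function.Injective f := by
    rintro ⟨g, hg⟩ ⟨g', hg'⟩ h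
    have h1 : g.1 = g'.1 := congrArg Subtype.val h
    apply Subtype.ext
    refine Prod.ext h1 (Equiv.ext fun i => ι.injective ?_)
    rw [← hg.2, ← hg'.2, h1]
  have hP : Group.IsSolvable ↥P := Group.isSolvable_of_isSolvable_injective hf
  set R := P.map (MonoidHom.snd (Perm α) (Perm (Fin k))) with hR
  have hRsol : Group.IsSolvable ↥R :=
    Group.isSolvable_of_surjective
      ((MonoidHom.snd (Perm α) (Perm (Fin k))).subgroupMap_surjective P)
  have hle : Subgroup.closure {u₀, v₀} ≤ R := by
    rw [Subgroup.closure_le]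
    rintro x (rfl | rfl)
    · exact ⟨(u, x), ⟨hu, hιu⟩, rfl⟩
    · exact ⟨(v, x), ⟨hv, hιv⟩, rfl⟩
  exact not_isSolvable_of_two_three_five (G := ↥R) (a := ⟨a, hle ha⟩) (b := ⟨b, hle hb⟩)
    (Subtype.ext ha2) (Subtype.ext hb3) (Subtype.ext hab)
    (fun h => hne (congrArg Subtype.val h)) hRsol

end Cfsg.AltPairs
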