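import Cfsg.Agent.Lib.AltPairs.Main

/-!
# Elements of order three, and the general statement
-/

set_option autoImplicit false
set_option linter.style.haveILetI false
set_option maxRecDepth 4000

namespace Cfsg.AltPairs

open Equiv

/-- `(0 1 2)` on six points. -/
def cycA : Perm (Fin 6) := swap 0 1 * swap 1 2

/-- `(0 1 2)(3 4 5)`. -/
def cycB : Perm (Fin 6) := swap 0 1 * swap 1 2 * (swap 3 4 * swap 4 5)

/-- The odd centralising element of `cycA`. -/
def oddA : Perm (Fin 6) := swap 3 4

/-- The odd centralising element of `cycB`. -/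
def oddB : Perm (Fin 6) := swap 0 3 * swap 1 4 * swap 2 5

/-- `(0, 3, 4, 1, 2, 5)` as images. -/
def rhoAA : Perm (Fin 6) := ⟨![0, 3, 4, 1, 2, 5], ![0, 3, 4, 1, 2, 5], by decide, by decide⟩

/-- `(0, 1, 3, 2, 4, 5)` as images. -/
def rhoAB : Perm (Fin 6) := swap 2 3

/-- `(0, 1, 3, 2, 5, 4)` as images. -/
def rhoBB : Perm (Fin 6) := swap 2 3 * swap 4 5

theorem mem_closure_word {G : Type*} [Group G] (x y : G) :
    x ∈ Subgroup.closure {x, y} ∧ x * x * y * x * y ∈ Subgroup.closure {x, y} ∧
      x * y * x * y ∈ Subgroup.closure {x, y} ∧ x * y ∈ Subgroup.closure {x, y} := by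
  have hx : x ∈ Subgroup.closure ({x, y} : Set G) := Subgroup.subset_closure (by simp)
  have hy : y ∈ Subgroup.closure ({x, y} : Set G) := Subgroup.subset_closure (by simp)
  exact ⟨hx, mul_mem (mul_mem (mul_mem (mul_mem hx hx) hy) hx) hy,
    mul_mem (mul_mem (mul_mem hx hy) hx) hy, mul_mem hx hy⟩

variable {α : Type*} [Fintype α] [DecidableEq α]

theorem exists_six (hn : 6 ≤ Fintype.card α) (u : Perm α) (hu : u ≠ 1)
    (h3 : ∀ x, (u ^ 3) x = x) :
    ∃ κ : Fin 6 ↪ α, (∀ i, u (κ i) = κ (cycA i)) ∨ (∀ i, u (κ i) = κ (cycB i)) := by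
  obtain ⟨x, hx⟩ : ∃ x, u x ≠ x := by
    by_contra hcon
    push Not at hcon
    exact hu (Equiv.ext hcon)
  have hper : ∀ y, u y ≠ y → Function.minimalPeriod u y = 3 := by
    intro y hy
    have h : Function.IsPeriodicPt u 3 y := by
      show u^[3] y = y
      rw [← Perm.coe_pow]; exact h3 y
    rcases Nat.prime_three.eq_one_or_self_of_dvd _ h.minimalPeriod_dvd with h' | h'
    · exact absurd (Function.minimalPeriod_eq_one_iff_isFixedPt.mp h') hy
    · exact h'
  have hu3 : ∀ y, u (u (u y)) = y := fun y => by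
    have := h3 y
    rwa [pow_succ, pow_two, Perm.mul_apply, Perm.mul_apply] at this
  have dist : ∀ y, u y ≠ y → y ≠ u y ∧ y ≠ u (u y) ∧ u y ≠ u (u y) := by
    intro y hy
    refine ⟨Ne.symm hy, fun h => hy ?_, fun h => hy (u.injective h).symm⟩
    have := hu3 y
    rwa [← h] at this
  obtain ⟨x1, x2, x3⟩ := dist x hx
  set O := orbitSet u x with hO
  have hOcard : O.card = 3 := by rw [hO, orbitSet_card, hper x hx]
  have m0 : x ∈ O := self_mem_orbitSet u x
  have m1 : u x ∈ O := orbitSet_invariant u x _ m0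
  have m2 : u (u x) ∈ O := orbitSet_invariant u x _ m1
  have hout : 3 ≤ Oᶜ.card := by rw [Finset.card_compl]; omega
  have sep : ∀ {y z : α}, y ∈ O → z ∉ O → y ≠ z := fun hy hz h => hz (h ▸ hy)
  by_cases hex : ∃ y ∈ Oᶜ, u y ≠ y
  · obtain ⟨y, hy, hy1⟩ := hex
    rw [Finset.mem_compl] at hy
    obtain ⟨y1, y2, y3⟩ := dist y hy1
    have hy' : u y ∉ O := by
      simpa using pow_not_mem_of_not_mem (orbitSet_invariant u x) hy 1
    have hy'' : u (u y) ∉ O := by
      simpa [pow_two] using pow_not_mem_of_not_mem (orbitSet_invariant u x) hy 2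
    refine ⟨⟨![x, u x, u (u x), y, u y, u (u y)], ?_⟩, Or.inr ?_⟩
    · intro i j hij
      have a1 := sep m0 hy; have a2 := sep m0 hy'; have a3 := sep m0 hy''
      have a4 := sep m1 hy; have a5 := sep m1 hy'; have a6 := sep m1 hy''
      have a7 := sep m2 hy; have a8 := sep m2 hy'; have a9 := sep m2 hy''
      fin_cases i <;> fin_cases j <;>
        first
        | rfl
        | exact absurd hij ‹_›
        | exact absurd hij.symm ‹_›
    · intro i
      fin_cases i <;> simp [cycB, Equiv.swap_apply_def, hu3] <;> first | rfl | exact hu3 _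
  · push Not at hex
    obtain ⟨R, hR, hR3⟩ := Finset.exists_subset_card_eq hout
    obtain ⟨a, b, c, hab, hac, hbc, rfl⟩ := Finset.card_eq_three.mp hR3
    have ha : a ∉ O := Finset.mem_compl.mp (hR (by simp))
    have hb : b ∉ O := Finset.mem_compl.mp (hR (by simp))
    have hc : c ∉ O := Finset.mem_compl.mp (hR (by simp))
    have fa := hex a (Finset.mem_compl.mpr ha)
    have fb := hex b (Finset.mem_compl.mpr hb)
    have fc := hex c (Finset.mem_compl.mpr hc)
    refine ⟨⟨![x, u x, u (u x), a, b, c], ?_⟩, Or.inl ?_⟩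
    · intro i j hij
      have a1 := sep m0 ha; have a2 := sep m0 hb; have a3 := sep m0 hc
      have a4 := sep m1 ha; have a5 := sep m1 hb; have a6 := sep m1 hc
      have a7 := sep m2 ha; have a8 := sep m2 hb; have a9 := sep m2 hc
      fin_cases i <;> fin_cases j <;>
        first
        | rfl
        | exact absurd hij ‹_›
        | exact absurd hij.symm ‹_›
    · intro i
      fin_cases i <;> simp [cycA, Equiv.swap_apply_def, hu3, fa, fb, fc] <;> first | rfl | exact hu3 _ | exact fa | exact fb | exact fc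

theorem goodPair_three_six {p : ℕ} (hp : p = 3) (hn : 6 ≤ Fintype.card α) (u w : Perm α)
    (hu : u ≠ 1) (hw : w ≠ 1) (hu3 : ∀ x, (u ^ 3) x = x) (hw3 : ∀ x, (w ^ 3) x = x) :
    GoodPair p u w := by
  subst hp
  obtain ⟨ι, hι | hι⟩ := exists_six hn u hu hu3 <;> obtain ⟨κ, hκ | hκ⟩ := exists_six hn w hw hw3
  · exact goodPair_of_table Nat.prime_three u w ι κ cycA cycA rhoAA oddA _ _ hι hκ
      (by decide) (by decide) (mem_closure_word _ _).2.1 (mem_closure_word _ _).1
      (by decide) (by decide) (by decide) (by decide) 5 (by norm_num) (by norm_num) 0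
      (by decide) (by decide)
  · exact goodPair_of_table Nat.prime_three u w ι κ cycA cycB rhoAB oddB _ _ hι hκ
      (by decide) (by decide) (mem_closure_word _ _).2.2.1 (mem_closure_word _ _).1
      (by decide) (by decide) (by decide) (by decide) 2 (by norm_num) (by norm_num) 1
      (by decide) (by decide)
  · exact goodPair_of_table Nat.prime_three u w ι κ cycB cycA rhoAB oddA _ _ hι hκ
      (by decide) (by decide) (mem_closure_word _ _).2.2.1 (mem_closure_word _ _).1
      (by decide) (by decide) (by decide) (by decide) 2 (by norm_num) (by norm_num) 0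
      (by decide) (by decide)
  · exact goodPair_of_table Nat.prime_three u w ι κ cycB cycB rhoBB oddB _ _ hι hκ
      (by decide) (by decide) (mem_closure_word _ _).2.1 (mem_closure_word _ _).1
      (by decide) (by decide) (by decide) (by decide) 5 (by norm_num) (by norm_num) 0
      (by decide) (by decide)

/-- `(0 1 2)` on five points. -/
def cycC : Perm (Fin 5) := swap 0 1 * swap 1 2

/-- `(0, 3, 4, 1, 2)` as images. -/
def rhoCC : Perm (Fin 5) := ⟨![0, 3, 4, 1, 2], ![0, 3, 4, 1, 2], by decide, by decide⟩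

theorem goodPair_three_five {p : ℕ} (hp : p = 3) (hn : Fintype.card α = 5) (u w : Perm α)
    (hu : u ≠ 1) (hw : w ≠ 1) (hu3 : ∀ x, (u ^ 3) x = x) (hw3 : ∀ x, (w ^ 3) x = x) :
    GoodPair p u w := by
  subst hp
  have five : ∀ (t : Perm α), t ≠ 1 → (∀ x, (t ^ 3) x = x) →
      ∃ κ : Fin 5 ↪ α, ∀ i, t (κ i) = κ (cycC i) := by
    intro t ht ht3
    haveI : Fact (Nat.Prime 3) := ⟨Nat.prime_three⟩
    have ht1 : t ^ (3 ^ 1) = 1 := by
      rw [pow_one]; exact Equiv.ext ht3
    obtain ⟨x, hx⟩ : ∃ x, t x ≠ x := by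
      by_contra hcon
      push Not at hcon
      exact ht (Equiv.ext hcon)
    have ht3' : ∀ y, t (t (t y)) = y := fun y => by
      have := ht3 y
      rwa [pow_succ, pow_two, Perm.mul_apply, Perm.mul_apply] at this
    have x2 : x ≠ t (t x) := fun h => hx (by have := ht3' x; rwa [← h] at this)
    have x3 : t x ≠ t (t x) := fun h => hx (t.injective h).symm
    set O := orbitSet t x with hO
    have m0 : x ∈ O := self_mem_orbitSet t x
    have m1 : t x ∈ O := orbitSet_invariant t x _ m0
    have m2 : t (t x) ∈ O := orbitSet_invariant t x _ m1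
    have hOcard : O.card = 3 := by
      rw [hO, orbitSet_card]
      have h : Function.IsPeriodicPt t 3 x := ht3' x
      rcases Nat.prime_three.eq_one_or_self_of_dvd _ h.minimalPeriod_dvd with h' | h'
      · exact absurd (Function.minimalPeriod_eq_one_iff_isFixedPt.mp h') hx
      · exact h'
    have hout : Oᶜ.card = 2 := by rw [Finset.card_compl]; omega
    obtain ⟨a, b, hab, hR⟩ := Finset.card_eq_two.mp hout
    have ha : a ∉ O := Finset.mem_compl.mp (hR ▸ by simp)
    have hb : b ∉ O := Finset.mem_compl.mp (hR ▸ by simp)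
    have hfix : ∀ y, y ∉ O → t y = y := by
      intro y hy
      by_contra hne
      have hinv : ∀ z ∈ Oᶜ, t z ∈ Oᶜ := by
        intro z hz
        rw [Finset.mem_compl] at hz ⊢
        simpa using pow_not_mem_of_not_mem (orbitSet_invariant t x) hz 1
      have hsub : orbitSet t y ⊆ Oᶜ := by
        intro z hz
        obtain ⟨i, -, rfl⟩ := Finset.mem_image.mp hz
        exact pow_mem_of_mem hinv (Finset.mem_compl.mpr hy) i
      have h := Finset.card_le_card hsub
      rw [orbitSet_card, hout] at h
      have h' : Function.IsPeriodicPt t 3 y := ht3' y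
      rcases Nat.prime_three.eq_one_or_self_of_dvd _ h'.minimalPeriod_dvd with h'' | h''
      · exact hne (Function.minimalPeriod_eq_one_iff_isFixedPt.mp h'')
      · omega
    have sep : ∀ {y z : α}, y ∈ O → z ∉ O → y ≠ z := fun hy hz h => hz (h ▸ hy)
    refine ⟨⟨![x, t x, t (t x), a, b],
      injective_five (Ne.symm hx) x2 (sep m0 ha) (sep m0 hb) x3 (sep m1 ha) (sep m1 hb)
        (sep m2 ha) (sep m2 hb) hab⟩, fun i => ?_⟩
    fin_cases i <;> simp [cycC, Equiv.swap_apply_def, ht3', hfix a ha, hfix b hb]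
  obtain ⟨ι, hι⟩ := five u hu hu3
  obtain ⟨κ, hκ⟩ := five w hw hw3
  exact goodPair_of_table Nat.prime_three u w ι κ cycC cycC rhoCC (swap 3 4) _ _ hι hκ
    (by decide) (by decide) (mem_closure_word _ _).2.1 (mem_closure_word _ _).1
    (by decide) (by decide) (by decide) (by decide) 5 (by norm_num) (by norm_num) 0
    (by decide) (by decide)

/-- Every pair of nontrivial elements of `p`-power order on at least five points is good. -/
theorem goodPair {p : ℕ} [Fact p.Prime] (hp : p ≠ 2) (hn : 5 ≤ Fintype.card α) (u w : Perm α)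
    (hu : u ≠ 1) (hw : w ≠ 1) {i j : ℕ} (hui : u ^ (p ^ i) = 1) (hwj : w ^ (p ^ j) = 1) :
    GoodPair p u w := by
  have hpp : p.Prime := Fact.out
  have h3 : 3 ≤ p := by have := hpp.two_le; omega
  haveI : Nonempty α := Fintype.card_pos_iff.mp (by omega)
  obtain ⟨x, -, hxmax⟩ := Finset.exists_max_image Finset.univ
    (fun y => Function.minimalPeriod u y) Finset.univ_nonempty
  obtain ⟨y, -, hymax⟩ := Finset.exists_max_image Finset.univ
    (fun y => Function.minimalPeriod w y) Finset.univ_nonempty
  obtain ⟨a, ha⟩ := period_eq_prime_pow hui x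
  obtain ⟨b, hb⟩ := period_eq_prime_pow hwj y
  have dvd_of : ∀ {t : Perm α} {k : ℕ}, t ^ (p ^ k) = 1 → ∀ {c : ℕ} {z : α},
      Function.minimalPeriod t z ≤ p ^ c → Function.minimalPeriod t z ∣ p ^ c := by
    intro t k ht c z hle
    obtain ⟨e, he⟩ := period_eq_prime_pow ht z
    rw [he] at hle ⊢
    exact pow_dvd_pow p ((Nat.pow_le_pow_iff_right hpp.one_lt).mp hle)
  by_cases hbig : 5 ≤ p ^ (max a b)
  · rcases le_total b a with hba | hab
    · rw [max_eq_left hba] at hbig
      refine goodPair_of_long_orbit hp u w hwj hw x a ha hbig fun z => dvd_of hwj ?_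
      exact ((hymax z (Finset.mem_univ _)).trans_eq hb).trans (Nat.pow_le_pow_right hpp.pos hba)
    · rw [max_eq_right hab] at hbig
      refine (goodPair_of_long_orbit hp w u hui hu y b hb hbig fun z => dvd_of hui ?_).symm
      exact ((hxmax z (Finset.mem_univ _)).trans_eq ha).trans (Nat.pow_le_pow_right hpp.pos hab)
  · have hpow : ∀ c : ℕ, p ^ c < 5 → c ≤ 1 := by
      intro c hc
      by_contra hc2
      have h1 : 3 ^ 2 ≤ p ^ 2 := Nat.pow_le_pow_left h3 2
      have h2 : p ^ 2 ≤ p ^ c := Nat.pow_le_pow_right hpp.pos (by omega)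
      omega
    have hmax1 := hpow (max a b) (by omega)
    have fix_all : ∀ {t : Perm α} {k c : ℕ}, t ^ (p ^ k) = 1 → c ≤ 1 →
        (∀ z, Function.minimalPeriod t z ≤ p ^ c) → ∀ z, (t ^ p) z = z := by
      intro t k c ht hc hle z
      have h1 : Function.minimalPeriod t z ∣ p :=
        (dvd_of ht (hle z)).trans (by simpa using pow_dvd_pow p hc)
      obtain ⟨r, hr⟩ := h1
      rw [Perm.coe_pow, hr, Function.iterate_mul]
      exact Function.iterate_fixed (Function.iterate_minimalPeriod) r
    have hu' := fix_all hui (le_trans (le_max_left a b) hmax1)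
      (fun z => (hxmax z (Finset.mem_univ _)).trans_eq ha)
    have hw' := fix_all hwj (le_trans (le_max_right a b) hmax1)
      (fun z => (hymax z (Finset.mem_univ _)).trans_eq hb)
    have hp3 : p = 3 := by
      have hab1 : max a b = 1 := by
        rcases Nat.eq_zero_or_pos (max a b) with h | h
        · exfalso
          apply hu
          ext z
          have ha0 : a = 0 := by omega
          have h1 := (hxmax z (Finset.mem_univ _)).trans_eq ha
          rw [ha0, pow_zero] at h1
          have h2 := period_pos u z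
          exact Function.minimalPeriod_eq_one_iff_isFixedPt.mp (by omega)
        · omega
      rw [hab1, pow_one] at hbig
      by_contra hne
      have : p ≠ 4 := fun h => by rw [h] at hpp; norm_num at hpp
      omega
    rw [hp3] at hu' hw'
    rcases eq_or_lt_of_le hn with h5 | h6
    · exact goodPair_three_five hp3 h5.symm u w hu hw hu' hw'
    · exact goodPair_three_six hp3 h6 u w hu hw hu' hw'

end Cfsg.AltPairs
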