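import Cfsg.Agent.Lib.AltPairs.Affine

/-!
# The affine criterion for non-solvability
-/

set_option autoImplicit false
set_option linter.style.haveILetI false

namespace Cfsg.AltPairs

open Equiv
open scoped commutatorElement

universe uu

/-- A nontrivial solvable subgroup has a nontrivial normal abelian subgroup of prime exponent. -/
theorem exists_normal_prime_exponent {G : Type*} [Group G] [Finite G] (hsol : Group.IsSolvable G)
    [Nontrivial G] :
    ∃ (q : ℕ) (N : Subgroup G), q.Prime ∧ N.Normal ∧ N ≠ ⊥ ∧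
      (∀ x ∈ N, ∀ y ∈ N, x * y = y * x) ∧ ∀ x ∈ N, x ^ q = 1 := by
  classical
  obtain ⟨n, hn⟩ := (Group.isSolvable_def (G := G)).mp hsol
  have hex : ∃ n, derivedSeries G n = ⊥ := ⟨n, hn⟩
  set n₀ := Nat.find hex with hn₀
  have hn₀bot : derivedSeries G n₀ = ⊥ := Nat.find_spec hex
  obtain ⟨m, hm⟩ : ∃ m, n₀ = m + 1 := by
    refine ⟨n₀ - 1, ?_⟩
    have : n₀ ≠ 0 := by
      intro h0
      rw [h0, derivedSeries_zero] at hn₀bot
      exact top_ne_bot hn₀bot
    omega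
  set D := derivedSeries G m with hD
  have hDne : D ≠ ⊥ := Nat.find_min hex (by omega)
  have hDcomm : ∀ x ∈ D, ∀ y ∈ D, x * y = y * x := by
    intro x hx y hy
    rw [← commutatorElement_eq_one_iff_mul_comm]
    have : ⁅x, y⁆ ∈ derivedSeries G (m + 1) := by
      rw [derivedSeries_succ]; exact Subgroup.commutator_mem_commutator hx hy
    rw [← hm, hn₀bot, Subgroup.mem_bot] at this
    exact this
  have hDn : D.Normal := derivedSeries_normal G m
  have hcard : Nat.card D ≠ 1 := by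
    rw [Ne, Subgroup.card_eq_one]; exact hDne
  obtain ⟨q, hq, hqdvd⟩ := Nat.exists_prime_and_dvd hcard
  haveI : Fact q.Prime := ⟨hq⟩
  obtain ⟨z, hz⟩ := exists_prime_orderOf_dvd_card' q hqdvd
  let N : Subgroup G :=
    { carrier := {x | x ∈ D ∧ x ^ q = 1}
      one_mem' := ⟨D.one_mem, one_pow q⟩
      mul_mem' := fun {x y} hx hy => ⟨D.mul_mem hx.1 hy.1, by
        rw [Commute.mul_pow (hDcomm x hx.1 y hy.1), hx.2, hy.2, mul_one]⟩
      inv_mem' := fun {x} hx => ⟨D.inv_mem hx.1, by rw [inv_pow, hx.2, inv_one]⟩ }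
  refine ⟨q, N, hq, ⟨fun x hx g => ⟨hDn.conj_mem x hx.1 g, ?_⟩⟩, ?_, ?_, fun x hx => hx.2⟩
  · rw [conj_pow, hx.2]; simp
  · intro hN
    have hzN : (z : G) ∈ N := ⟨z.2, by rw [← SubgroupClass.coe_pow, ← hz, pow_orderOf_eq_one]; rfl⟩
    rw [hN, Subgroup.mem_bot] at hzN
    have : z = 1 := Subtype.ext hzN
    rw [this, orderOf_one] at hz
    exact hq.one_lt.ne hz
  · intro x hx y hy
    exact hDcomm x hx.1 y hy.1

/-- In a solvable permutation group on `p ^ a` points containing a full cycle `u`, every element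
is affine modulo `p`. -/
theorem affine_of_solvable {p : ℕ} [Fact p.Prime] (hp : p ≠ 2) :
    ∀ (a : ℕ), 1 ≤ a → ∀ (Ω : Type uu) [Finite Ω] (G : Subgroup (Perm Ω)),
      Group.IsSolvable ↥G → ∀ u ∈ G, ∀ o : Ω, Nat.card Ω = p ^ a →
      (∀ x, ∃ k : ℕ, (u ^ k) o = x) → ∀ v ∈ G,
      ∃ c e : ZMod p, ∀ k l : ℕ, v ((u ^ k) o) = (u ^ l) o → (l : ZMod p) = c * k + e := by
  intro a
  induction a using Nat.strong_induction_on with
  | h a ih =>
  intro ha Ω _ G hsol u hu o hcard htr v hv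
  classical
  have hpp : p.Prime := Fact.out
  have hpa : p ≤ p ^ a := Nat.le_self_pow (by omega) p
  haveI : Nontrivial ↥G := by
    refine nontrivial_of_ne ⟨u, hu⟩ 1 fun h => ?_
    have h1 : u = 1 := congrArg Subtype.val h
    have hsub : Subsingleton Ω := ⟨fun x y => by
      obtain ⟨k, rfl⟩ := htr x
      obtain ⟨l, rfl⟩ := htr y
      simp [h1]⟩
    have : Nat.card Ω ≤ 1 := Finite.card_le_one_iff_subsingleton.mpr hsub
    have := hpp.two_le
    omega
  obtain ⟨q, N₀, hq, hN₀n, hN₀ne, hcomm₀, hexp₀⟩ := exists_normal_prime_exponent hsol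
  set N : Subgroup (Perm Ω) := N₀.map G.subtype with hN
  have hmemN : ∀ g ∈ G, ∀ z ∈ N, g * z * g⁻¹ ∈ N := by
    rintro g hg z ⟨z₀, hz₀, rfl⟩
    exact ⟨⟨g, hg⟩ * z₀ * ⟨g, hg⟩⁻¹, hN₀n.conj_mem z₀ hz₀ ⟨g, hg⟩, rfl⟩
  have hNcomm : ∀ x ∈ N, ∀ y ∈ N, x * y = y * x := by
    rintro x ⟨x₀, hx₀, rfl⟩ y ⟨y₀, hy₀, rfl⟩
    exact congrArg (fun t : ↥G => (t : Perm Ω)) (hcomm₀ x₀ hx₀ y₀ hy₀)
  have hNexp : ∀ x ∈ N, x ^ q = 1 := by
    rintro x ⟨x₀, hx₀, rfl⟩
    show (x₀ : Perm Ω) ^ q = 1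
    rw [← SubgroupClass.coe_pow, hexp₀ x₀ hx₀]; rfl
  obtain ⟨z₁, hz₁, hz₁ne⟩ : ∃ z ∈ N, z ≠ 1 := by
    by_contra hcon
    push Not at hcon
    refine hN₀ne ((Subgroup.eq_bot_iff_forall _).mpr fun z hz => Subtype.ext ?_)
    exact hcon (z : Perm Ω) ⟨z, hz, rfl⟩
  let r : Setoid Ω :=
    { r := fun x y => ∃ z ∈ N, z x = y
      iseqv :=
        ⟨fun x => ⟨1, N.one_mem, rfl⟩,
         fun {x y} ⟨z, hz, hzx⟩ => ⟨z⁻¹, N.inv_mem hz, by rw [← hzx]; simp⟩,
         fun {x y w} ⟨z, hz, hzx⟩ ⟨z', hz', hzy⟩ =>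
          ⟨z' * z, N.mul_mem hz' hz, by rw [Perm.mul_apply, hzx, hzy]⟩⟩ }
  have hiff : ∀ g ∈ G, ∀ x y : Ω, r x y ↔ r (g x) (g y) := by
    intro g hg x y
    constructor
    · rintro ⟨z, hz, rfl⟩
      exact ⟨g * z * g⁻¹, hmemN g hg z hz, by simp⟩
    · rintro ⟨z, hz, hzx⟩
      refine ⟨g⁻¹ * z * g, ?_, by rw [Perm.mul_apply, Perm.mul_apply, hzx]; simp⟩
      have := hmemN g⁻¹ (G.inv_mem hg) z hz
      rwa [inv_inv] at this
  let φ : ↥G →* Perm (Quotient r) :=
    { toFun := fun g => Quotient.congr (g : Perm Ω) (hiff g g.2)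
      map_one' := by ext x; induction x using Quotient.inductionOn with | h a => rfl
      map_mul' := fun g h => by ext x; induction x using Quotient.inductionOn with | h a => rfl }
  have hφapp : ∀ (g : ↥G) (x : Ω), φ g (Quotient.mk r x) = Quotient.mk r ((g : Perm Ω) x) :=
    fun g x => rfl
  have hφpow : ∀ k : ℕ, (φ ⟨u, hu⟩ ^ k) (Quotient.mk r o) = Quotient.mk r ((u ^ k) o) := by
    intro k
    rw [← map_pow, hφapp]; rfl
  have htr' : ∀ x, ∃ k : ℕ, (φ ⟨u, hu⟩ ^ k) (Quotient.mk r o) = x := by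
    intro x
    induction x using Quotient.inductionOn with
    | h y =>
      obtain ⟨k, rfl⟩ := htr y
      exact ⟨k, hφpow k⟩
  haveI : Finite (Quotient r) := inferInstance
  have hdvd : Nat.card (Quotient r) ∣ p ^ a := by
    rw [← hcard, ← Nat.modEq_zero_iff_dvd, ← pow_apply_eq_iff_modEq htr', hφpow, hφpow]
    congr 1
    rw [pow_apply_eq_iff_modEq htr]
    simp [Nat.ModEq]
  obtain ⟨j, hja, hj⟩ := (Nat.dvd_prime_pow hpp).mp hdvd
  have hjlt : j < a := by
    rcases Nat.lt_or_ge j a with h | h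
    · exact h
    exfalso
    have hje : j = a := le_antisymm hja h
    apply hz₁ne
    ext x
    have hinj : Function.Injective (Quotient.mk r) := by
      have hsurj : Function.Surjective (Quotient.mk r) := Quotient.mk_surjective
      exact ((Nat.bijective_iff_surjective_and_card _).mpr
        ⟨hsurj, by rw [hcard, hj, hje]⟩).1
    exact (hinj (Quotient.sound ⟨z₁, hz₁, rfl⟩ : Quotient.mk r x = Quotient.mk r (z₁ x))).symm
  rcases Nat.eq_zero_or_pos j with hj0 | hj1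
  · have hsub : Subsingleton (Quotient r) := by
      rw [← Finite.card_le_one_iff_subsingleton, hj, hj0, pow_zero]
    have hNtr : ∀ x, ∃ z ∈ N, z o = x :=
      fun x => Quotient.exact (Subsingleton.elim (Quotient.mk r o) (Quotient.mk r x))
    have hNcard : Nat.card N = p ^ a := by
      rw [← hcard]
      refine Nat.card_eq_of_bijective (fun z : N => (z : Perm Ω) o) ⟨?_, ?_⟩
      · rintro ⟨y, hy⟩ ⟨z, hz⟩ (hyz : y o = z o)
        apply Subtype.ext
        ext x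
        obtain ⟨w, hw, rfl⟩ := hNtr x
        show y (w o) = z (w o)
        rw [← Perm.mul_apply, hNcomm y hy w hw, Perm.mul_apply, hyz, ← Perm.mul_apply,
          hNcomm w hw z hz, Perm.mul_apply]
      · intro x
        obtain ⟨z, hz, hzx⟩ := hNtr x
        exact ⟨⟨z, hz⟩, hzx⟩
    haveI : Fact q.Prime := ⟨hq⟩
    have hqp : q = p := by
      have h1 : orderOf z₁ = q := orderOf_eq_prime (hNexp z₁ hz₁) hz₁ne
      have h2 : orderOf z₁ ∣ p ^ a := by
        rw [← hNcard]; exact Subgroup.orderOf_dvd_natCard N hz₁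
      rw [h1] at h2
      exact (Nat.prime_dvd_prime_iff_eq hq hpp).mp (hq.dvd_of_dvd_pow h2)
    rw [hqp] at hNexp
    obtain ⟨ha1, huN, hNp⟩ := transitive_exponent_prime_normalized hp N u o a ha hcard htr hNcomm
      hNexp hNtr (fun z hz => hmemN u hu z hz)
    have hune : u ≠ 1 := by
      intro h1
      have h2 : (0 : ℕ) ≡ 1 [MOD Nat.card Ω] := by
        rw [← pow_apply_eq_iff_modEq htr]; simp [h1]
      rw [hcard, ha1, pow_one, Nat.ModEq, Nat.zero_mod, Nat.one_mod_eq_one.mpr hpp.one_lt.ne'] at h2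
      exact zero_ne_one h2
    obtain ⟨c, hc⟩ : ∃ c : ℕ, u ^ c = v * u * v⁻¹ := by
      have hmem : (⟨v * u * v⁻¹, hmemN v hv u huN⟩ : ↥N) ∈
          Subgroup.zpowers (⟨u, huN⟩ : ↥N) := by
        exact mem_zpowers_of_prime_card hNp (fun h => hune (congrArg Subtype.val h))
      obtain ⟨c, hc⟩ := mem_powers_iff_mem_zpowers.mpr hmem
      exact ⟨c, congrArg Subtype.val hc⟩
    obtain ⟨e, he⟩ := htr (v o)
    refine ⟨(c : ZMod p), (e : ZMod p), fun k l hkl => ?_⟩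
    have h1 : v * u ^ k = (u ^ c) ^ k * v := by
      rw [hc, conj_pow]; group
    rw [← Perm.mul_apply, h1, Perm.mul_apply, ← he, ← Perm.mul_apply, ← pow_mul, ← pow_add,
      pow_apply_eq_iff_modEq htr, hcard, ha1, pow_one, ← ZMod.natCast_eq_natCast_iff] at hkl
    rw [← hkl]
    push_cast
    ring
  · obtain ⟨c, e, hce⟩ := ih j hjlt hj1 (Quotient r) φ.range
      (Group.isSolvable_of_surjective φ.rangeRestrict_surjective) (φ ⟨u, hu⟩) ⟨_, rfl⟩ (Quotient.mk r o)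
      hj htr' (φ ⟨v, hv⟩) ⟨_, rfl⟩
    refine ⟨c, e, fun k l hkl => hce k l ?_⟩
    rw [hφpow, hφpow, hφapp]
    exact congrArg (Quotient.mk r) hkl

/-- The permutations preserving the set `S`. -/
def setFixers {α : Type*} (S : Set α) : Subgroup (Perm α) where
  carrier := {g | ∀ x, g x ∈ S ↔ x ∈ S}
  one_mem' := fun _ => Iff.rfl
  mul_mem' := fun {g h} hg hh x => (hg (h x)).trans (hh x)
  inv_mem' := fun {g} hg x => by
    have := hg (g⁻¹ x)
    simp at this
    exact this.symm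

/-- Restriction to an invariant set. -/
def restrictHom {α : Type*} (S : Set α) : ↥(setFixers S) →* Perm ↥S where
  toFun g := (g : Perm α).subtypePerm g.2
  map_one' := by ext; rfl
  map_mul' g h := by ext; rfl

theorem mem_setFixers_of_mapsTo {α : Type*} [Finite α] {S : Set α} {g : Perm α}
    (h : ∀ x ∈ S, g x ∈ S) : g ∈ setFixers S := by
  intro x
  refine ⟨fun hx => ?_, h x⟩
  have hsurj : Set.SurjOn g S S :=
    ((Set.Finite.injOn_iff_bijOn_of_mapsTo (Set.toFinite S) h).mp g.injective.injOn).surjOn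
  obtain ⟨y, hy, hyx⟩ := hsurj hx
  exact g.injective hyx ▸ hy

/-- If `u` has an orbit of `p ^ a` points which `v` preserves but permutes in a way that is not
affine modulo `p`, then a group containing `u` and `v` is not solvable. -/
theorem not_isSolvable_of_not_affine {α : Type uu} [Finite α] {p : ℕ} [Fact p.Prime] (hp : p ≠ 2)
    {H : Subgroup (Perm α)} {u v : Perm α} (hu : u ∈ H) (hv : v ∈ H) (x₀ : α) {a : ℕ} (ha : 1 ≤ a)
    (hper : Function.minimalPeriod u x₀ = p ^ a)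
    (hvS : ∀ k : ℕ, ∃ l : ℕ, v ((u ^ k) x₀) = (u ^ l) x₀)
    (h : ∀ c e : ZMod p, ∃ k l : ℕ, v ((u ^ k) x₀) = (u ^ l) x₀ ∧ (l : ZMod p) ≠ c * k + e) :
    ¬ Group.IsSolvable ↥H := by
  intro hsol
  set S : Set α := Set.range fun k : ℕ => (u ^ k) x₀ with hS
  have huS : u ∈ setFixers S := mem_setFixers_of_mapsTo (by
    rintro x ⟨k, rfl⟩
    exact ⟨k + 1, by show (u ^ (k + 1)) x₀ = _; rw [pow_succ', Perm.mul_apply]⟩)
  have hvS' : v ∈ setFixers S := mem_setFixers_of_mapsTo (by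
    rintro x ⟨k, rfl⟩
    obtain ⟨l, hl⟩ := hvS k
    exact ⟨l, hl.symm⟩)
  let K : Subgroup (Perm α) := H ⊓ setFixers S
  have hKsol : Group.IsSolvable ↥K :=
    Group.isSolvable_of_isSolvable_injective (f := Subgroup.inclusion (inf_le_left : K ≤ H))
      (Subgroup.inclusion_injective _)
  let φ : ↥K →* Perm ↥S := (restrictHom S).comp (Subgroup.inclusion inf_le_right)
  have hφ : ∀ (g : ↥K) (x : ↥S), ((φ g x : ↥S) : α) = (g : Perm α) x := fun g x => rfl
  have hpow : ∀ k : ℕ, (((φ ⟨u, hu, huS⟩) ^ k) ⟨x₀, 0, rfl⟩ : ↥S) = (⟨(u ^ k) x₀, k, rfl⟩ : ↥S) := by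
    intro k
    apply Subtype.ext
    rw [← map_pow, hφ]; rfl
  have htr : ∀ x : ↥S, ∃ k : ℕ, ((φ ⟨u, hu, huS⟩) ^ k) ⟨x₀, 0, rfl⟩ = x := by
    rintro ⟨x, k, rfl⟩
    exact ⟨k, hpow k⟩
  have hcard : Nat.card ↥S = p ^ a := by
    rw [← hper, ← minimalPeriod_eq_natCard htr]
    refine Function.minimalPeriod_eq_minimalPeriod_iff.mpr fun n => ?_
    simp only [Function.IsPeriodicPt, Function.IsFixedPt, ← Perm.coe_pow, hpow]
    exact Subtype.ext_iff
  obtain ⟨c, e, hce⟩ := affine_of_solvable hp a ha ↥S φ.range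
    (Group.isSolvable_of_surjective φ.rangeRestrict_surjective) _ ⟨⟨u, hu, huS⟩, rfl⟩ ⟨x₀, 0, rfl⟩ hcard
    htr _ ⟨⟨v, hv, hvS'⟩, rfl⟩
  obtain ⟨k, l, hkl, hne⟩ := h c e
  refine hne (hce k l ?_)
  rw [hpow, hpow]
  exact Subtype.ext (by rw [hφ]; exact hkl)

end Cfsg.AltPairs
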